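import Cfsg.Agent.Lib.HeUniq.Local.GlueData

/-!
Two sides, one for the frame and one for the twisted frame, glue to an amalgam: the glued element of the
first side lies in the second one, where the relations inside the common part leave two candidates conjugate
by the central involution.
-/

set_option autoImplicit false
set_option maxRecDepth 100000

namespace Cfsg.Agent.HeUniq.Glue

open Cfsg.Agent.HeUniq.Model Cfsg.Agent.HeUniq.Local

/-- a centraliser code -/
def cOK (a : ℕ) : Bool :=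
  Nat.blt a (2 ^ 25) && Nat.beq (mC a (invC a)) oneC && Nat.beq (mC a zC) (mC zC a)

/-- the letter of a step in the first side -/
def lo (j : ℕ) : ℕ := bif Nat.blt j 3072 then pM j else s0

/-- the letter of a step in the second side -/
def hi (x j : ℕ) : ℕ := bif Nat.blt j 3072 then pM j else x

/-- a step from the running indices -/
def stepOK (x a b : ℕ) (s : Step) : Bool :=
  ((Nat.blt s.j 3072 && Nat.blt s.j' 3072 && Nat.beq (theta (pC s.j')) (pC s.j)) ||
    (Nat.beq s.j 3072 && Nat.beq s.j' 3072)) &&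
  Nat.blt s.l 138240 && Nat.blt s.l' 138240 && Nat.blt s.k 138240 && Nat.blt s.k' 138240 &&
  Nat.beq (md s.l) (lo s.j) && Nat.beq (md s.l') (hi x s.j') &&
  Nat.beq (mM (md s.l) (md a)) (md s.k) && Nat.beq (mM (md s.l') (md b)) (md s.k')

/-- the steps of a word -/
def runOK (x : ℕ) : ℕ → ℕ → List Step → Bool
  | _, _, [] => true
  | a, b, s :: w => stepOK x a b s && runOK x s.k s.k' w

/-- the end of a word in the first side -/
def end0 : ℕ → List Step → ℕ
  | a, [] => a
  | _, s :: w => end0 s.k w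

/-- the end of a word in the second side -/
def end1 : ℕ → List Step → ℕ
  | b, [] => b
  | _, s :: w => end1 s.k' w

/-- the candidate `v` is refuted -/
def killOK (v : ℕ) : Bool :=
  Nat.beq v 0 || Nat.beq v 17 ||
  (let w := words.getD v ([], [])
   let x := md (cand.getD v 0)
   runOK x 0 0 w.1 && runOK x 0 0 w.2 && Nat.beq (md (end0 0 w.1)) (md (end0 0 w.2)) &&
     !Nat.beq (md (end1 0 w.1)) (md (end1 0 w.2)))

/-- the translations in both sides and the candidates -/
def transOK (v : ℕ) : Bool :=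
  let j := tPair.getD v 0
  let e := ePair.getD v 0
  Nat.blt j 3072 && Nat.blt e 3072 && Nat.beq (pM j) (md v) && Nat.beq (theta (pC j)) (cd (eInd.getD v 0)) &&
  Nat.beq (pC e) (cd (eInd.getD v 0)) && Nat.blt (eInd.getD v 0) 21504 &&
  Nat.blt (eLin.getD v 0) 138240 && Nat.beq (pM e) (md (eLin.getD v 0)) &&
  Nat.blt (cand.getD v 0) 138240 && Nat.beq (mM (md (64 * linIdx)) (md v)) (md (cand.getD v 0))

/-- the action of the glued element and of its linear part -/
def actOK (k : ℕ) : Bool :=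
  let v := 2 ^ k
  let w := image.getD k 0
  Nat.blt w 64 && Nat.beq (mM s0 (pM (ePair.getD v 0))) (mM (pM (ePair.getD w 0)) s0) &&
  Nat.beq (mM (md (64 * linIdx)) (md v)) (mM (md w) (md (64 * linIdx)))

/-- whatever commutes with the second elementary group lies in it -/
def centOK (i : ℕ) : Bool :=
  ([1, 2, 4, 8, 16, 32].any fun v =>
    !Nat.beq (mC (cd i) (cd (eInd.getD v 0))) (mC (cd (eInd.getD v 0)) (cd i))) ||
  eInd.any fun c => Nat.beq c i

theorem trans_ok : allB transOK 64 = true := by decide +kernel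

theorem act_ok : allB actOK 6 = true := by decide +kernel

theorem kill_ok : allB killOK 64 = true := by decide +kernel

theorem pC_ok : allB (fun j => cOK (pC j)) 3072 = true := by decide +kernel

theorem cent0_ok : allB centOK 10752 = true := by decide +kernel

theorem cent1_ok : allB (fun i => centOK (10752 + i)) 10752 = true := by decide +kernel

theorem facts : md 0 = oneM ∧ md 28160 = s0 ∧ md (cand.getD 0 0) = s0 ∧ md 28161 = mM (md 1) s0 ∧
    md (cand.getD 17 0) = mM (md 28161) (md 1) ∧ theta (pC (tPair.getD 1 0)) = zC ∧ mM oneM oneM = oneM ∧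
    eInd.length = 64 := by decide +kernel

attribute [local irreducible] cd md mC mM theta pC pM

theorem inM_md {k : ℕ} (h : k < 138240) : InM (md k) := ⟨k, h, rfl⟩

theorem inC_pC {j : ℕ} (hj : j < 3072) : InC (pC j) := by
  have h := allB_spec pC_ok j hj
  simp only [cOK, Bool.and_eq_true, Nat.blt_eq, Nat.beq_eq] at h
  obtain ⟨⟨h1, h2⟩, h3⟩ := h
  refine inC_of_toMat h1 ?_ ?_
  · intro h0
    have := congrArg Matrix.det (congrArg (Bit.toMat 5) h2)
    rw [mC_eq, Bit.toMat_bmul, Matrix.det_mul, h0, zero_mul, one_eq, Bit.toMat_bone, Matrix.det_one] at this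
    exact zero_ne_one this
  · have := congrArg (Bit.toMat 5) h3
    rwa [mC_eq, mC_eq, Bit.toMat_bmul, Bit.toMat_bmul, toMat_zC] at this

variable {G : Type*} [Group G] {t : G} {F : Frame G t}

theorem side_one {F : Frame G t} (S : Side F) : S.g oneM = 1 := by
  have h := S.mul oneM oneM (facts.1 ▸ inM_md (by norm_num)) (facts.1 ▸ inM_md (by norm_num))
  rw [facts.2.2.2.2.2.2.1] at h
  exact mul_eq_left.1 h.symm

variable (S0 : Side F) (S1 : Side F.twist)

theorem pair_eq {j j' : ℕ} (hj : j < 3072) (hj' : j' < 3072) (h : theta (pC j') = pC j) :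
    S0.g (pM j) = S1.g (pM j') := by
  rw [S0.pair j hj, S1.pair j' hj', ← h]
  rfl

theorem run_val {x : ℕ} (hs : S0.g s0 = S1.g x) :
    ∀ (w : List Step) (a b : ℕ), a < 138240 → b < 138240 → runOK x a b w = true →
      S0.g (md a) = S1.g (md b) →
      end0 a w < 138240 ∧ end1 b w < 138240 ∧ S0.g (md (end0 a w)) = S1.g (md (end1 b w))
  | [], a, b, ha, hb, _, h => ⟨ha, hb, h⟩
  | s :: w, a, b, ha, hb, hr, h => by
    simp only [runOK, Bool.and_eq_true, stepOK, Bool.or_eq_true, Nat.blt_eq, Nat.beq_eq] at hr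
    obtain ⟨⟨⟨⟨⟨⟨⟨⟨⟨hc, hl⟩, hl'⟩, hk⟩, hk'⟩, el⟩, el'⟩, em⟩, em'⟩, hw⟩ := hr
    refine run_val hs w s.k s.k' hk hk' hw ?_
    rw [← em, ← em', S0.mul _ _ (inM_md hl) (inM_md ha), S1.mul _ _ (inM_md hl') (inM_md hb), h, el, el']
    congr 1
    rcases hc with ⟨⟨hj, hj'⟩, ht⟩ | ⟨hj, hj'⟩
    · have b1 : Nat.blt s.j 3072 = true := by simpa [Nat.blt_eq] using hj
      have b2 : Nat.blt s.j' 3072 = true := by simpa [Nat.blt_eq] using hj'
      simp only [lo, hi, b1, b2, cond_true]
      exact pair_eq S0 S1 hj hj' ht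
    · have b : Nat.blt 3072 3072 = false := rfl
      simpa [lo, hi, hj, hj', b] using hs

/-- the glued element of the first side is one of the candidates in the second -/
theorem exists_cand : ∃ v < 64, S0.g s0 = S1.g (md (cand.getD v 0)) := by
  have hT := fun {v : ℕ} (hv : v < 64) => allB_spec trans_ok v hv
  simp only [transOK, Bool.and_eq_true, Nat.blt_eq, Nat.beq_eq] at hT
  set e : ℕ → G := fun v => F.f (cd (eInd.getD v 0)) with he
  have e1 : ∀ {v : ℕ}, v < 64 → S1.g (md v) = e v := fun {v} hv => by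
    obtain ⟨⟨⟨⟨⟨⟨⟨⟨⟨hj, -⟩, hp⟩, ht⟩, -⟩, -⟩, -⟩, -⟩, -⟩, -⟩ := hT hv
    rw [← hp, S1.pair _ hj]
    exact congrArg F.f ht
  have e0 : ∀ {v : ℕ}, v < 64 → InM (pM (ePair.getD v 0)) ∧ S0.g (pM (ePair.getD v 0)) = e v := fun {v} hv => by
    obtain ⟨⟨⟨⟨⟨⟨⟨⟨⟨-, hj⟩, -⟩, -⟩, hc⟩, -⟩, hl⟩, hp⟩, -⟩, -⟩ := hT hv
    refine ⟨hp ▸ inM_md hl, ?_⟩
    rw [S0.pair _ hj, hc]
  have hs : InM s0 := facts.2.1 ▸ inM_md (by norm_num)
  have hL : InM (md (64 * linIdx)) := inM_md (by norm_num [linIdx])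
  set a := S1.g (md (64 * linIdx)) with ha
  have hact : ∀ k < 6, a⁻¹ * S0.g s0 * e (2 ^ k) = e (2 ^ k) * (a⁻¹ * S0.g s0) := by
    intro k hk
    have h := allB_spec act_ok k hk
    simp only [actOK, Bool.and_eq_true, Nat.blt_eq, Nat.beq_eq] at h
    obtain ⟨⟨hw, h0⟩, h1⟩ := h
    have hv : 2 ^ k < 64 := lt_of_lt_of_le (Nat.pow_lt_pow_right one_lt_two hk) le_rfl
    have i0 : S0.g s0 * e (2 ^ k) = e (image.getD k 0) * S0.g s0 := by
      rw [← (e0 hv).2, ← (e0 hw).2, ← S0.mul _ _ hs (e0 hv).1, ← S0.mul _ _ (e0 hw).1 hs, h0]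
    have i1 : a * e (2 ^ k) = e (image.getD k 0) * a := by
      rw [ha, ← e1 hv, ← e1 hw, ← S1.mul _ _ hL (inM_md (by omega)), ← S1.mul _ _ (inM_md (by omega)) hL, h1]
    have i2 : a⁻¹ * e (image.getD k 0) = e (2 ^ k) * a⁻¹ := by
      rw [eq_mul_inv_iff_mul_eq, mul_assoc, ← i1, inv_mul_cancel_left]
    rw [mul_assoc, i0, ← mul_assoc, i2, mul_assoc]
  have hcd : ∀ v < 64, eInd.getD v 0 < 21504 := fun v hv => (hT hv).1.1.1.1.2
  have h1 : e (2 ^ 0) = t := by
    have h := facts.2.2.2.2.2.1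
    rw [(hT (v := 1) (by norm_num)).1.1.1.1.1.1.2] at h
    show F.f (cd (eInd.getD 1 0)) = t
    rw [h, F.fz]
  obtain ⟨c, ⟨i, hi, rfl⟩, hd⟩ := F.surj (a⁻¹ * S0.g s0) (by have := hact 0 (by norm_num); rwa [h1] at this)
  have hcomm : ∀ v ∈ [1, 2, 4, 8, 16, 32],
      mC (cd i) (cd (eInd.getD v 0)) = mC (cd (eInd.getD v 0)) (cd i) := by
    intro v hv
    obtain ⟨k, hk, rfl⟩ : ∃ k < 6, v = 2 ^ k := by
      simp only [List.mem_cons, List.not_mem_nil, or_false] at hv
      rcases hv with rfl | rfl | rfl | rfl | rfl | rfl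
      exacts [⟨0, by norm_num⟩, ⟨1, by norm_num⟩, ⟨2, by norm_num⟩, ⟨3, by norm_num⟩, ⟨4, by norm_num⟩,
        ⟨5, by norm_num⟩]
    have hc := inC_cd (hcd _ (lt_of_lt_of_le (Nat.pow_lt_pow_right one_lt_two hk) le_rfl : 2 ^ k < 64))
    refine F.inj ((inC_cd hi).mul hc) (hc.mul (inC_cd hi)) ?_
    rw [F.mul (inC_cd hi) hc, F.mul hc (inC_cd hi), hd]
    exact hact k hk
  have hi' : centOK i = true := by
    rcases Nat.lt_or_ge i 10752 with h | h
    · exact allB_spec cent0_ok i h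
    · exact allB_chunk cent1_ok h (by omega)
  simp only [centOK, Bool.or_eq_true, List.any_eq_true, Nat.beq_eq] at hi'
  rcases hi' with ⟨v, hv, h⟩ | ⟨c, hc, h⟩
  · rw [hcomm v hv, Bool.not_eq_true', ← Bool.not_eq_true, Nat.beq_eq] at h
    exact absurd rfl h
  obtain ⟨v, hv, rfl⟩ := List.getElem_of_mem hc
  have hv64 : v < 64 := lt_of_lt_of_eq hv facts.2.2.2.2.2.2.2
  refine ⟨v, hv64, ?_⟩
  have hg : eInd.getD v 0 = i := by rw [List.getD_eq_getElem _ _ hv, h]
  calc S0.g s0 = a * (a⁻¹ * S0.g s0) := (mul_inv_cancel_left _ _).symm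
    _ = a * S1.g (md v) := by rw [← hd, e1 hv64, he]; simp only [hg]
    _ = S1.g (md (cand.getD v 0)) := by
      rw [ha, ← S1.mul _ _ hL (inM_md (by omega)), (hT hv64).2]

/-- the relations leave two candidates -/
theorem cand_cases {v : ℕ} (hv : v < 64) (hs : S0.g s0 = S1.g (md (cand.getD v 0))) : v = 0 ∨ v = 17 := by
  have h := allB_spec kill_ok v hv
  simp only [killOK, Bool.or_eq_true, Nat.beq_eq, Bool.and_eq_true, Bool.not_eq_true'] at h
  rcases h with h | ⟨⟨⟨h1, h2⟩, h3⟩, h4⟩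
  · exact h
  exfalso
  have hz : S0.g (md 0) = S1.g (md 0) := by rw [facts.1, side_one, side_one]
  obtain ⟨-, l1, r1⟩ := run_val S0 S1 hs _ 0 0 (by norm_num) (by norm_num) h1 hz
  obtain ⟨-, l2, r2⟩ := run_val S0 S1 hs _ 0 0 (by norm_num) (by norm_num) h2 hz
  rw [h3, r2] at r1
  rw [S1.inj _ _ (inM_md l2) (inM_md l1) r1, ← Bool.not_eq_true, Nat.beq_eq] at h4
  exact h4 rfl

include S0 S1 in
/-- two sides glue -/
theorem amalgam_of_sides : Nonempty (Local.Amalgam G) := by
  obtain ⟨v, hv, hs⟩ := exists_cand S0 S1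
  rcases cand_cases S0 S1 hv hs with rfl | rfl
  · rw [facts.2.2.1] at hs
    exact ⟨{ fC := F.f, f0 := S0.g, f1 := S1.g
             mulC := fun i hi j hj => F.mul (inC_cd hi) (inC_cd hj)
             injC := fun i hi j hj => F.inj (inC_cd hi) (inC_cd hj)
             mul0 := S0.mul, mul1 := S1.mul
             pair0 := S0.pair, pair1 := S1.pair
             glue := hs.symm }⟩
  · have htt : t * t = 1 := by
      rw [← F.fz, ← F.mul inC_z inC_z, show mC zC zC = oneC by unfold mC; decide +kernel, F.one]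
    have ht1 : S1.g (md 1) = t := by
      have hT := allB_spec trans_ok 1 (by norm_num)
      simp only [transOK, Bool.and_eq_true, Nat.blt_eq, Nat.beq_eq] at hT
      obtain ⟨⟨⟨⟨⟨⟨⟨⟨⟨hj, -⟩, hp⟩, -⟩, -⟩, -⟩, -⟩, -⟩, -⟩, -⟩ := hT
      rw [← hp, S1.pair _ hj]
      show F.f (theta (pC (tPair.getD 1 0))) = t
      rw [facts.2.2.2.2.2.1, F.fz]
    have hs' : InM s0 := facts.2.1 ▸ inM_md (by norm_num)
    refine ⟨{ fC := F.f, f0 := S0.g, f1 := fun a => t * S1.g a * t
              mulC := fun i hi j hj => F.mul (inC_cd hi) (inC_cd hj)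
              injC := fun i hi j hj => F.inj (inC_cd hi) (inC_cd hj)
              mul0 := S0.mul, mul1 := ?_
              pair0 := S0.pair, pair1 := ?_
              glue := ?_ }⟩
    · intro a b ha hb
      calc t * S1.g (mM a b) * t = t * S1.g a * 1 * S1.g b * t := by rw [S1.mul a b ha hb, mul_one, ← mul_assoc]
        _ = _ := by rw [← htt]; simp only [mul_assoc]
    · intro j hj
      show t * S1.g (pM j) * t = _
      rw [S1.pair j hj]
      show t * F.f (theta (pC j)) * t = F.f (theta (pC j))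
      rw [← F.cent (inC_pC hj).theta, mul_assoc, htt, mul_one]
    · show t * S1.g s0 * t = S0.g s0
      rw [hs, facts.2.2.2.2.1, S1.mul _ _ (inM_md (by norm_num)) (inM_md (by norm_num)), facts.2.2.2.1,
        S1.mul _ _ (inM_md (by norm_num)) hs', ht1]

end Cfsg.Agent.HeUniq.Glue
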