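import Cfsg.Agent.Lib.HeUniq.Local.Amalgam
import Cfsg.Agent.Lib.HeUniq.Model.Frame

/-! One side of the amalgam: the normaliser of an elementary group of order 64. -/

set_option autoImplicit false

namespace Cfsg.Agent.HeUniq.Local

open Cfsg.Agent.HeUniq.Model

/-- the affine group mapped into `G`, agreeing with the centraliser on the pairs -/
structure Side {G : Type*} [Group G] {t : G} (F : Frame G t) where
  /-- the element of an affine code -/
  g : ℕ → G
  mul : ∀ a b, InM a → InM b → g (mM a b) = g a * g b
  inj : ∀ a b, InM a → InM b → g a = g b → a = b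
  pair : ∀ j < 3072, g (pM j) = F.f (pC j)

end Cfsg.Agent.HeUniq.Local
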