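import Cfsg.Agent.Lib.HeUniq.Local.Lifts
import Cfsg.Agent.Lib.HeUniq.Local.Side

/-! One side of the amalgam exists in a group with the Held pattern of fusion. -/

set_option autoImplicit false
set_option maxRecDepth 20000

namespace Cfsg.Agent.HeUniq.Local

open Cfsg.Agent.HeUniq.Model Cfsg.Agent.HeUniq.Fus

variable {G : Type*} [Group G] {t : G} (F : Frame G t)

theorem prod_zI : IsProd zI1 zI1 zI2 ∧ IsProd zI2 zI1 idI := by
  obtain ⟨h1, h2, -, h4, h5, h6⟩ := base_facts
  exact ⟨isProd_of_code h4 h5, isProd_of_code h2 (h6.trans h1.symm)⟩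

theorem fpf {z : ℕ} (hz : z = zI1 ∨ z = zI2) :
    (∀ v < 64, app z v = v → v = 0) ∧ ∀ w < 64, ∃ v < 64, v ^^^ app z v = w := by
  have h := base_ok
  simp only [baseAllOK, Bool.and_eq_true] at h
  obtain ⟨⟨⟨-, h1⟩, h2⟩, h3⟩ := h
  constructor
  · intro v hv e
    by_contra h0
    have h := allB_spec h1 v hv
    simp only [Bool.or_eq_true, Nat.beq_eq, h0, false_or, Bool.and_eq_true, Bool.not_eq_true'] at h
    rcases hz with rfl | rfl
    · rw [e, Nat.beq_refl] at h; exact Bool.noConfusion h.1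
    · rw [e, Nat.beq_refl] at h; exact Bool.noConfusion h.2
  · intro w hw
    rcases hz with rfl | rfl
    · have h := allB_spec h2 w hw
      simp only [List.any_eq_true, List.mem_range, Nat.beq_eq] at h
      exact h
    · have h := allB_spec h3 w hw
      simp only [List.any_eq_true, List.mem_range, Nat.beq_eq] at h
      exact h

theorem zeta_conj {i : ℕ} (hi : i < 2160) : ∃ z, (z = zI1 ∨ z = zI2) ∧ sM i * sM zI1 = sM z * sM i := by
  have h := allB_spec zeta_ok i hi
  simp only [zetaOK, Bool.or_eq_true, Nat.beq_eq] at h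
  have e : ∀ z, mM (stabAt i) (stabAt zI1) = mM (stabAt z) (stabAt i) → sM i * sM zI1 = sM z * sM i := by
    intro z hz
    rw [← Bit.toMat_bmul, ← Bit.toMat_bmul]
    exact congrArg (Bit.toMat 7) hz
  rcases h with h | h
  exacts [⟨zI1, Or.inl rfl, e _ h⟩, ⟨zI2, Or.inr rfl, e _ h⟩]

/-- a lift compatible with a lift of the central map -/
def Good (N : G) (i : ℕ) (n : G) : Prop :=
  Lift F i n ∧ (n * N * n⁻¹ = N ∨ n * N * n⁻¹ = N * N)

variable {F}

theorem cube_one {N : G} (hN : Lift F zI1 N) : N * N * N = 1 := by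
  obtain ⟨hz11, hz21⟩ := prod_zI
  obtain ⟨-, -, h3, h4, -, -⟩ := base_facts
  obtain ⟨u, hu, e⟩ := Lift.unique F (lift_one F) ((hN.mul F h3 h3 hz11 hN).mul F h4 h3 hz21 hN)
  rw [mul_one] at e
  have hc : N * elt F u = elt F u * N := by rw [← e]; group
  have hu0 : u = 0 := (fpf (Or.inl rfl)).1 u hu (elt_inj F (app_lt _ _) hu
    (mul_right_cancel ((hN.push F hu).symm.trans hc)))
  rw [e, hu0, elt_zero]

theorem exists_good (hm : mask F = 123) {N : G} (hN : Lift F zI1 N) {i : ℕ} (hi : i < 2160) :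
    ∃ n, Good F N i n := by
  obtain ⟨hz11, -⟩ := prod_zI
  obtain ⟨-, -, h3, h4, -, -⟩ := base_facts
  obtain ⟨n, hn⟩ := exists_lift F hm i hi
  obtain ⟨z, hz, hzi⟩ := zeta_conj hi
  obtain ⟨Nz, hNz, hNzL⟩ : ∃ Nz : G, (Nz = N ∨ Nz = N * N) ∧ Lift F z Nz := by
    rcases hz with rfl | rfl
    · exact ⟨N, Or.inl rfl, hN⟩
    · exact ⟨N * N, Or.inr rfl, hN.mul F h3 h3 hz11 hN⟩
  have hz' : z < 2160 := by rcases hz with rfl | rfl <;> assumption
  have hL : Lift F z (n * N * n⁻¹) := fun v hv => by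
    obtain ⟨k, hk⟩ := exists_prod i hi zI1 h3
    have hk' : IsProd z i k := ⟨hk.1, hzi.symm.trans hk.2⟩
    have key : ∀ w < 64, app z (app i w) = app i (app zI1 w) := fun w hw => by
      rw [← isProd_app hz' hi hk' w hw, isProd_app hi h3 hk w hw]
    have hsur : ∃ w < 64, app i w = v := by
      let f : Fin 64 → Fin 64 := fun w => ⟨app i w, app_lt _ _⟩
      have hf : Function.Injective f := fun a b e => by
        have e' : app i a = app i b := congrArg Fin.val e
        have h' : n * elt F a * n⁻¹ = n * elt F b * n⁻¹ := by rw [hn a a.2, hn b b.2, e']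
        exact Fin.ext (elt_inj F a.2 b.2 (mul_left_cancel (mul_right_cancel h')))
      obtain ⟨w, hw⟩ := (Finite.injective_iff_surjective.1 hf) ⟨v, hv⟩
      exact ⟨w, w.2, congrArg Fin.val hw⟩
    obtain ⟨w, hw, rfl⟩ := hsur
    rw [key w hw, ← hn _ (app_lt _ _), ← hN w hw, ← hn w hw]
    group
  obtain ⟨u, hu, e⟩ := Lift.unique F hNzL hL
  obtain ⟨v, hv, hvu⟩ := (fpf hz).2 u hu
  refine ⟨elt F v * n, ?_, ?_⟩
  · intro w hw
    rw [mul_inv_rev, show elt F v * n * elt F w * (n⁻¹ * (elt F v)⁻¹) =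
      elt F v * (n * elt F w * n⁻¹) * (elt F v)⁻¹ by group, hn w hw, elt_comm F hv (app_lt _ _), mul_inv_cancel_right]
  · have hrot : elt F v * n * N * (elt F v * n)⁻¹ = Nz := by
      rw [mul_inv_rev, show elt F v * n * N * (n⁻¹ * (elt F v)⁻¹) = elt F v * (n * N * n⁻¹) * (elt F v)⁻¹ by group,
        e, elt_inv F hv, mul_assoc, mul_assoc, hNzL.push F hv, ← mul_assoc, ← mul_assoc, elt_mul F hv hu,
        elt_mul F (Nat.xor_lt_two_pow (n := 6) hv hu) (app_lt _ _)]
      rw [← hvu, ← Nat.xor_assoc v v, Nat.xor_self, Nat.zero_xor, Nat.xor_self, elt_zero, one_mul]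
    rw [hrot]
    exact hNz

theorem good_unique {N : G} (hN : Lift F zI1 N) {i : ℕ} {n m : G} (h1 : Good F N i n) (h2 : Good F N i m) :
    n = m := by
  obtain ⟨hz11, -⟩ := prod_zI
  obtain ⟨-, -, h3, h4, -, -⟩ := base_facts
  obtain ⟨v, hv, rfl⟩ := Lift.unique F h1.1 h2.1
  have hN2 := hN.mul F h3 h3 hz11 hN
  have hdiff : ∀ u < 64, N * N = elt F u * N → False := fun u hu e => by
    have hu2 : ∀ w < 64, app zI2 w = app zI1 w := fun w hw => by
      refine elt_inj F (app_lt _ _) (app_lt _ _) ?_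
      rw [← hN2 w hw, e, mul_inv_rev, show elt F u * N * elt F w * (N⁻¹ * (elt F u)⁻¹) =
        elt F u * (N * elt F w * N⁻¹) * (elt F u)⁻¹ by group, hN w hw, elt_comm F hu (app_lt _ _), mul_inv_cancel_right]
    have h5 := isProd_app h3 h3 hz11 1 (by norm_num)
    rw [hu2 1 (by norm_num)] at h5
    have h6 := (fpf (Or.inl rfl)).1 (app zI1 1) (app_lt _ _) h5.symm
    have h7 := hN 1 (by norm_num)
    rw [h6, elt_zero, conj_eq_one_iff] at h7
    exact absurd (elt_inj F (by norm_num) (by norm_num) (h7.trans (elt_zero F).symm)) (by norm_num : ¬ (1 : ℕ) = 0)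
  have hrot : elt F v * n * N * (elt F v * n)⁻¹ = elt F v * (n * N * n⁻¹) * elt F v := by
    rw [mul_inv_rev, elt_inv F hv]; group
  have hfix : ∀ z Nz, z < 2160 → (z = zI1 ∨ z = zI2) → Lift F z Nz → n * N * n⁻¹ = Nz →
      elt F v * n * N * (elt F v * n)⁻¹ = Nz → v = 0 := by
    intro z Nz _ hz hL e1 e2
    rw [hrot, e1, mul_assoc, hL.push F hv, ← mul_assoc, elt_mul F hv (app_lt _ _)] at e2
    refine (fpf hz).1 v hv ?_
    have := elt_inj F (Nat.xor_lt_two_pow (n := 6) hv (app_lt _ _)) (by norm_num)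
      ((mul_eq_right.1 e2).trans (elt_zero F).symm)
    exact (Nat.xor_eq_zero_iff.1 this).symm
  have hother : ∀ z Nz, Lift F z Nz → n * N * n⁻¹ = Nz → ∀ Nw, elt F v * n * N * (elt F v * n)⁻¹ = Nw →
      Nw = elt F (v ^^^ app z v) * Nz := by
    intro z Nz hL e1 Nw e2
    rw [← e2, hrot, e1, mul_assoc, hL.push F hv, ← mul_assoc, elt_mul F hv (app_lt _ _)]
  suffices h0 : v = 0 by rw [h0, elt_zero, one_mul]
  rcases h1.2 with a | a <;> rcases h2.2 with b | b
  · exact hfix zI1 N h3 (Or.inl rfl) hN a b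
  · exact absurd (hother zI1 N hN a _ b) fun e =>
      hdiff _ (Nat.xor_lt_two_pow (n := 6) hv (app_lt _ _)) e
  · have e := hother zI2 (N * N) hN2 a _ b
    have hx : v ^^^ app zI2 v < 64 := Nat.xor_lt_two_pow (n := 6) hv (app_lt _ _)
    refine absurd ?_ (hdiff _ hx)
    conv_rhs => arg 2; rw [e]
    rw [← mul_assoc, elt_sq F hx, one_mul]
  · exact hfix zI2 (N * N) h4 (Or.inr rfl) hN2 a b

theorem good_mul {N : G} (hN : Lift F zI1 N) {i j k : ℕ} {n m : G} (hi : i < 2160) (hj : j < 2160)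
    (hk : IsProd i j k) (h1 : Good F N i n) (h2 : Good F N j m) : Good F N k (n * m) := by
  refine ⟨h1.1.mul F hi hj hk h2.1, ?_⟩
  have c3 := cube_one hN
  rw [mul_inv_rev, show n * m * N * (m⁻¹ * n⁻¹) = n * (m * N * m⁻¹) * n⁻¹ by group]
  rcases h2.2 with b | b <;> rw [b]
  · exact h1.2
  · rw [← conj_mul]
    rcases h1.2 with a | a <;> rw [a]
    · exact Or.inr rfl
    · exact Or.inl (by rw [← mul_assoc, c3, one_mul])

theorem good_one {N : G} : Good F N idI (1 : G) := ⟨lift_one F, Or.inl (by group)⟩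

theorem gA_facts : gA 0 < 48 ∧ gA 1 < 48 ∧ e48 < 48 ∧ qA e48 = idI ∧ kA1 e48 = oneC ∧ witOK = true := by
  have h := base_ok
  simp only [baseAllOK, Bool.and_eq_true, Nat.blt_eq, Nat.beq_eq] at h
  tauto

theorem nx_facts {g b : ℕ} (hg : g < 2) (hb : b < 48) : nxA g b < 48 ∧
    mC (kA1 (gA g)) (kA1 b) = kA1 (nxA g b) ∧ IsProd (qA (gA g)) (qA b) (qA (nxA g b)) := by
  have h := allB_spec nx_ok (48 * g + b) (by omega)
  simp only [show (48 * g + b) / 48 = g by omega, show (48 * g + b) % 48 = b by omega, nxOK, Bool.and_eq_true,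
    Nat.blt_eq, Nat.beq_eq] at h
  exact ⟨h.1.1, h.1.2, isProd_of_code (by
    have := allB_spec k_ok _ h.1.1
    simp only [kOK, Bool.and_eq_true, Nat.blt_eq] at this
    exact this.1.2) h.2⟩

theorem dC_eq {d : ℕ → ℕ} (d0 : d e48 = 0)
    (dmul : ∀ g < 2, ∀ b < 48, d (nxA g b) = d (gA g) ^^^ app (qA (gA g)) (d b)) :
    ∀ a < 48, dC (d (gA 0)) (d (gA 1)) 7 a = d a := by
  have key : ∀ n a, a < 48 → pk parA 10 a / 128 < n → dC (d (gA 0)) (d (gA 1)) n a = d a := by
    intro n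
    induction n with
    | zero => intro a _ h; omega
    | succ n ih =>
      intro a ha hd
      show (bif Nat.beq a e48 then 0 else Nat.xor (bif Nat.beq (pk parA 10 a % 2) 0 then d (gA 0) else d (gA 1))
        (app (qA (gA (pk parA 10 a % 2))) (dC (d (gA 0)) (d (gA 1)) n (pk parA 10 a / 2 % 64)))) = d a
      have h := allB_spec treeA_ok a ha
      simp only [treeAOK, Bool.or_eq_true, Bool.and_eq_true, Nat.blt_eq, Nat.beq_eq] at h
      rcases h.2 with he | ⟨⟨⟨h1, h2⟩, h3⟩, h4⟩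
      · rw [he, Nat.beq_refl, cond_true, d0]
      · cases hb : Nat.beq a e48
        · rw [cond_false, ih _ h2 (by omega)]
          conv_rhs => rw [← h4, dmul _ h1 _ h2]
          rcases (show pk parA 10 a % 2 = 0 ∨ pk parA 10 a % 2 = 1 by omega) with e | e <;> rw [e] <;> rfl
        · rw [cond_true, Nat.eq_of_beq_eq_true hb, d0]
  intro a ha
  have h := allB_spec treeA_ok a ha
  simp only [treeAOK, Bool.and_eq_true, Nat.blt_eq] at h
  exact key 7 a ha h.1

/-- the complement agreeing with the centraliser -/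
theorem exists_complement (hm : mask F = 123) : ∃ κ : ℕ → G, (∀ i < 2160, Lift F i (κ i)) ∧
    (∀ i < 2160, ∀ j < 2160, ∀ k, IsProd i j k → κ k = κ i * κ j) ∧
    ∀ a < 48, κ (qA a) = F.f (kA1 a) := by
  classical
  obtain ⟨-, hid, h3, -, -, -⟩ := base_facts
  obtain ⟨N, hN⟩ := exists_lift F hm zI1 h3
  let κ : ℕ → G := fun i => if h : i < 2160 then Classical.choose (exists_good hm hN h) else 1
  have kgood : ∀ i < 2160, Good F N i (κ i) := fun i hi => by
    simp only [κ, dif_pos hi]; exact Classical.choose_spec (exists_good hm hN hi)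
  have kmul : ∀ i < 2160, ∀ j < 2160, ∀ k, IsProd i j k → κ k = κ i * κ j := fun i hi j hj k hk =>
    good_unique hN (kgood k hk.1) (good_mul hN hi hj hk (kgood i hi) (kgood j hj))
  obtain ⟨g0, g1, he48, hqe, hke, hwit⟩ := gA_facts
  have hex : ∀ a : Fin 48, ∃ d < 64, κ (qA a) = elt F d * F.f (kA1 a) := fun a =>
    Lift.unique F (lift_k F a.2).2.2 (kgood _ (lift_k F a.2).1).1
  choose df hdf64 hdf using hex
  let d : ℕ → ℕ := fun a => if h : a < 48 then df ⟨a, h⟩ else 0
  have d64 : ∀ a, d a < 64 := fun a => by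
    simp only [d]; split
    · exact hdf64 _
    · norm_num
  have dspec : ∀ a < 48, κ (qA a) = elt F (d a) * F.f (kA1 a) := fun a ha => by
    simp only [d, dif_pos ha]; exact hdf ⟨a, ha⟩
  have hg : ∀ g < 2, gA g < 48 := fun g hg => by interval_cases g <;> assumption
  have d0 : d e48 = 0 := by
    have h := dspec e48 he48
    rw [hqe, hke, F.one, mul_one, good_unique hN (kgood idI hid) good_one] at h
    exact elt_inj F (d64 _) (by norm_num) (h.symm.trans (elt_zero F).symm)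
  have dmul : ∀ g < 2, ∀ b < 48, d (nxA g b) = d (gA g) ^^^ app (qA (gA g)) (d b) := by
    intro g hg2 b hb
    obtain ⟨hnx, hmul, hP⟩ := nx_facts hg2 hb
    obtain ⟨hq, hC, hL⟩ := lift_k F (hg g hg2)
    have h := kmul _ hq _ (lift_k F hb).1 _ hP
    rw [dspec _ hnx, dspec _ (hg g hg2), dspec _ hb, mul_assoc, ← mul_assoc (F.f (kA1 (gA g))), hL.push F (d64 b),
      mul_assoc, ← F.mul hC (lift_k F hb).2.1, hmul, ← mul_assoc, elt_mul F (d64 _) (app_lt _ _)] at h
    exact elt_inj F (d64 _) (Nat.xor_lt_two_pow (n := 6) (d64 _) (app_lt _ _)) (mul_right_cancel h)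
  have hdC := dC_eq d0 dmul
  have hc := allB_spec coc_ok (64 * d (gA 0) + d (gA 1)) (by have := d64 (gA 0); have := d64 (gA 1); omega)
  simp only [cocOK, show (64 * d (gA 0) + d (gA 1)) / 64 = d (gA 0) by have := d64 (gA 1); omega,
    show (64 * d (gA 0) + d (gA 1)) % 64 = d (gA 1) by have := d64 (gA 1); omega, Bool.or_eq_true,
    List.any_eq_true, List.mem_range, Bool.and_eq_true, Nat.beq_eq, Bool.not_eq_true'] at hc
  simp only [witOK, Bool.and_eq_true, List.all_eq_true, Nat.blt_eq, Nat.beq_eq] at hwit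
  rcases hc with (⟨e, he, hne⟩ | ⟨v, hv, hx, hy⟩) | ⟨e, he, hne⟩
  · exfalso
    obtain ⟨he1, he2⟩ := hwit.1 e he
    rw [hdC _ (nx_facts he1 he2).1, hdC _ he2, dmul _ he1 _ he2] at hne
    have heq : (bif Nat.beq e.1 0 then d (gA 0) else d (gA 1)) = d (gA e.1) := by
      rcases (show e.1 = 0 ∨ e.1 = 1 by omega) with h | h <;> rw [h] <;> rfl
    rw [heq] at hne
    exact Bool.noConfusion (hne.symm.trans (Nat.beq_refl _))
  swap
  · exfalso
    obtain ⟨⟨⟨⟨ha, hb⟩, hT⟩, hw⟩, hcomm⟩ := hwit.2 e he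
    obtain ⟨hqa, hCa, -⟩ := lift_k F ha
    obtain ⟨hqb, hCb, -⟩ := lift_k F hb
    rw [hdC _ ha, hdC _ hb] at hne
    obtain ⟨k, hk⟩ := exists_prod _ hT _ hqa
    have hk' : IsProd (qA e.2.1) e.2.2.1 k := ⟨hk.1, by
      rw [← hk.2, ← Bit.toMat_bmul, ← Bit.toMat_bmul]
      exact congrArg (Bit.toMat 7) hcomm.symm⟩
    have e1 : κ e.2.2.1 * κ (qA e.1) * (κ e.2.2.1)⁻¹ = κ (qA e.2.1) :=
      mul_inv_eq_iff_eq_mul.2 ((kmul _ hT _ hqa k hk).symm.trans (kmul _ hqb _ hT k hk'))
    have e2 : κ e.2.2.1 * (elt F e.2.2.2 * κ (qA e.1)) * (κ e.2.2.1)⁻¹ =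
        elt F (app e.2.2.1 e.2.2.2) * κ (qA e.2.1) := by
      rw [← conj_mul, (kgood _ hT).1 _ hw, e1]
    rw [dspec _ ha, dspec _ hb, ← mul_assoc (elt F e.2.2.2), ← mul_assoc (elt F (app _ _)), elt_mul F hw (d64 _),
      elt_mul F (app_lt _ _) (d64 _)] at e2
    have hx1 : e.2.2.2 ^^^ d e.1 < 64 := Nat.xor_lt_two_pow (n := 6) hw (d64 _)
    have hx2 : app e.2.2.1 e.2.2.2 ^^^ d e.2.1 < 64 := Nat.xor_lt_two_pow (n := 6) (app_lt _ _) (d64 _)
    have := cmem_conj F hm ((elt_inC hx1).mul hCa) ((elt_inC hx2).mul hCb) (g := κ e.2.2.1) (by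
      rw [F.mul (elt_inC hx1) hCa, F.mul (elt_inC hx2) hCb]; exact e2)
    exact Bool.noConfusion (hne.symm.trans ((congrArg (fun x => Nat.beq x _) this).trans (Nat.beq_refl _)))
  · refine ⟨fun i => elt F v * κ i * elt F v, fun i hi w hw => ?_, fun i hi j hj k hk => ?_, ?_⟩
    · rw [mul_inv_rev, mul_inv_rev, elt_inv F hv, show elt F v * κ i * elt F v * elt F w *
        (elt F v * ((κ i)⁻¹ * elt F v)) = elt F v * (κ i * (elt F v * elt F w * elt F v) * (κ i)⁻¹) * elt F v by
        group, elt_comm F hv hw, mul_assoc (elt F w), elt_sq F hv, mul_one, (kgood i hi).1 w hw,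
        elt_comm F hv (app_lt _ _), mul_assoc, elt_sq F hv, mul_one]
    · show elt F v * κ k * elt F v = _ * (elt F v * κ j * elt F v)
      rw [kmul i hi j hj k hk]
      calc elt F v * (κ i * κ j) * elt F v = elt F v * κ i * 1 * κ j * elt F v := by group
        _ = _ := by rw [← elt_sq F hv]; group
    · have hd : ∀ a < 48, d a = v ^^^ app (qA a) v := by
        intro a
        induction hn : pk parA 10 a / 128 using Nat.strong_induction_on generalizing a with
        | _ n ih =>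
          intro ha
          have h := allB_spec treeA_ok a ha
          simp only [treeAOK, Bool.or_eq_true, Bool.and_eq_true, Nat.blt_eq, Nat.beq_eq] at h
          rcases h.2 with rfl | ⟨⟨⟨h1, h2⟩, h3'⟩, h4⟩
          · rw [d0, hqe, app_id v hv, Nat.xor_self]
          · have hg' : d (gA (pk parA 10 a % 2)) = v ^^^ app (qA (gA (pk parA 10 a % 2))) v := by
              rcases (show pk parA 10 a % 2 = 0 ∨ pk parA 10 a % 2 = 1 by omega) with e | e <;> rw [e]
              exacts [hx, hy]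
            rw [← h4, dmul _ h1 _ h2, hg', ih _ (hn ▸ h3') _ rfl h2,
              isProd_app (lift_k F (hg _ h1)).1 (lift_k F h2).1 (nx_facts h1 h2).2.2 v hv, app_xor,
              Nat.xor_assoc, ← Nat.xor_assoc (app _ v), Nat.xor_self, Nat.zero_xor]
      intro a ha
      show elt F v * κ (qA a) * elt F v = _
      rw [dspec a ha, hd a ha, mul_assoc (elt F v), mul_assoc (elt F (v ^^^ app (qA a) v)),
        (lift_k F ha).2.2.push F hv, ← mul_assoc, ← mul_assoc,
        elt_mul F hv (Nat.xor_lt_two_pow (n := 6) hv (app_lt _ _)),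
        ← Nat.xor_assoc, Nat.xor_self, Nat.zero_xor, elt_sq F (app_lt _ _), one_mul]

/-- one side of the amalgam -/
theorem exists_side (F : Frame G t) (hm : mask F = 123) : Nonempty (Side F) := by
  classical
  obtain ⟨κ, hlift, kmul, hk⟩ := exists_complement hm
  let g : ℕ → G := fun a =>
    if h : InM a then elt F (Classical.choose h % 64) * κ (Classical.choose h / 64) else 1
  have gmd : ∀ i < 2160, ∀ v < 64, g (md (64 * i + v)) = elt F v * κ i := by
    intro i hi v hv
    have h : InM (md (64 * i + v)) := inM_md hi hv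
    simp only [g, dif_pos h]
    obtain ⟨hk', he⟩ := Classical.choose_spec h
    have he' : md (64 * (Classical.choose h / 64) + Classical.choose h % 64) = md (64 * i + v) := by
      rw [Nat.div_add_mod]; exact he
    obtain ⟨e1, e2⟩ := md_inj (by omega) hi (Nat.mod_lt _ (by norm_num)) hv he'
    rw [e1, e2]
  refine ⟨⟨g, ?_, ?_, ?_⟩⟩
  · intro a b ha hb
    obtain ⟨i, hi, v, hv, rfl⟩ := inM_cases ha
    obtain ⟨j, hj, w, hw, rfl⟩ := inM_cases hb
    obtain ⟨k, hk'⟩ := exists_prod i hi j hj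
    rw [md_mul hi hj hk' hv hw, gmd k hk'.1 _ (Nat.xor_lt_two_pow (n := 6) hv (app_lt _ _)), gmd i hi v hv,
      gmd j hj w hw, kmul i hi j hj k hk', ← elt_mul F hv (app_lt _ _), mul_assoc, ← mul_assoc (elt F (app i w)),
      ← Lift.push F (hlift i hi) hw]
    simp only [mul_assoc]
  · intro a b ha hb h
    obtain ⟨i, hi, v, hv, rfl⟩ := inM_cases ha
    obtain ⟨j, hj, w, hw, rfl⟩ := inM_cases hb
    rw [gmd i hi v hv, gmd j hj w hw] at h
    have hij : i = j := by
      refine app_inj_index hi hj fun u hu => elt_inj F (app_lt _ _) (app_lt _ _) ?_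
      have e1 : ∀ i v, v < 64 → i < 2160 → (elt F v * κ i) * elt F u * (elt F v * κ i)⁻¹ = elt F (app i u) := by
        intro i v hv hi
        rw [mul_inv_rev, show elt F v * κ i * elt F u * ((κ i)⁻¹ * (elt F v)⁻¹) =
          elt F v * (κ i * elt F u * (κ i)⁻¹) * (elt F v)⁻¹ by group, hlift i hi u hu, elt_comm F hv (app_lt _ _),
          mul_inv_cancel_right]
      rw [← e1 i v hv hi, ← e1 j w hw hj, h]
    subst hij
    rw [elt_inj F hv hw (mul_right_cancel h)]
  · intro j hj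
    have h := allB_spec j_ok j hj
    simp only [jOK, Bool.and_eq_true, Nat.blt_eq, Nat.beq_eq] at h
    obtain ⟨⟨h1, h2⟩, h3⟩ := h
    have ha : jAt j / 64 < 48 := by omega
    have hv : jAt j % 64 < 64 := Nat.mod_lt _ (by norm_num)
    rw [← h3, gmd _ (lift_k F ha).1 _ hv, hk _ ha, elt, ← F.mul (elt_inC hv) (lift_k F ha).2.1, h2]

end Cfsg.Agent.HeUniq.Local
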