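import Cfsg.Agent.Lib.HeUniq.Local.SideChk
import Cfsg.Agent.Lib.HeUniq.Model.Code

/-! The affine group read on codes: linear parts, translations and their products. -/

set_option autoImplicit false
set_option maxRecDepth 100000

namespace Cfsg.Agent.HeUniq.Local

open Cfsg.Agent.HeUniq.Model Cfsg.Agent.HeUniq.Bit

theorem toMat_xor (n a b : ℕ) : toMat n (a ^^^ b) = toMat n a + toMat n b := by
  ext i j
  show sc ((a ^^^ b).testBit _) = sc (a.testBit _) + sc (b.testBit _)
  rw [Nat.testBit_xor, sc_xor]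

theorem lin_ext {P : ℕ → Prop} (h0 : P 0) (h1 : ∀ k < 6, P (2 ^ k))
    (hx : ∀ v < 64, ∀ w < 64, P v → P w → P (v ^^^ w)) : ∀ v < 64, P v := by
  have key : ∀ v : Fin 64, (v : ℕ) = 0 ∨ ∃ k : Fin 6, 2 ^ (k : ℕ) ^^^ (v : ℕ) < (v : ℕ) := by decide +kernel
  intro v
  induction v using Nat.strong_induction_on with
  | _ v ih =>
    intro hv
    rcases key ⟨v, hv⟩ with h | ⟨k, hk⟩
    · obtain rfl : v = 0 := h
      exact h0
    · have hr : 2 ^ (k : ℕ) ^^^ v < v := hk
      have hk64 : 2 ^ (k : ℕ) < 64 := Nat.pow_lt_pow_right (by norm_num) k.2 (a := 2)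
      have := hx _ hk64 _ (hr.trans hv) (h1 k k.2) (ih _ hr (hr.trans hv))
      rwa [← Nat.xor_assoc, Nat.xor_self, Nat.zero_xor] at this

theorem selK_eq (K v k : ℕ) : selK K v k = bif v.testBit k then (K >>> (6 * k)) % 64 else 0 := by
  show (v >>> k &&& 1) * (K >>> (6 * k) &&& 63) = _
  rw [Nat.and_one_is_mod, show (63 : ℕ) = 2 ^ 6 - 1 by norm_num, Nat.and_two_pow_sub_one_eq_mod,
    Nat.shiftRight_eq_div_pow v, Nat.testBit_eq_decide_div_mod_eq]
  rcases Nat.mod_two_eq_zero_or_one (v / 2 ^ k) with h | h <;> simp [h]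

theorem selK_xor (K v w k : ℕ) : selK K (v ^^^ w) k = selK K v k ^^^ selK K w k := by
  simp only [selK_eq, Nat.testBit_xor]
  cases v.testBit k <;> cases w.testBit k <;> simp

theorem selK_lt (K v k : ℕ) : selK K v k < 2 ^ 6 := by
  rw [selK_eq]
  cases v.testBit k
  · norm_num
  · exact Nat.mod_lt _ (by norm_num)

theorem aplK_eq (K v : ℕ) :
    aplK K v = selK K v 0 ^^^ selK K v 1 ^^^ selK K v 2 ^^^ selK K v 3 ^^^ selK K v 4 ^^^ selK K v 5 := rfl

theorem aplK_xor (K v w : ℕ) : aplK K (v ^^^ w) = aplK K v ^^^ aplK K w := by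
  simp only [aplK_eq, selK_xor]
  refine Nat.eq_of_testBit_eq fun i => ?_
  simp only [Nat.testBit_xor]
  cases (selK K v 0).testBit i <;> cases (selK K v 1).testBit i <;> cases (selK K v 2).testBit i <;>
    cases (selK K v 3).testBit i <;> cases (selK K v 4).testBit i <;> cases (selK K v 5).testBit i <;> simp

theorem aplK_lt (K v : ℕ) : aplK K v < 64 :=
  Nat.xor_lt_two_pow (n := 6) (Nat.xor_lt_two_pow (Nat.xor_lt_two_pow (Nat.xor_lt_two_pow (Nat.xor_lt_two_pow
    (selK_lt _ _ _) (selK_lt _ _ _)) (selK_lt _ _ _)) (selK_lt _ _ _)) (selK_lt _ _ _)) (selK_lt _ _ _)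

theorem aplK_zero (K : ℕ) : aplK K 0 = 0 := by
  simp [aplK_eq, selK_eq]

theorem pk_six (K k : ℕ) : pk K 6 k = (K >>> (6 * k)) % 64 := rfl

theorem aplK_unit (K : ℕ) {k : ℕ} (hk : k < 6) : aplK K (2 ^ k) = pk K 6 k := by
  rw [aplK_eq, pk_six]
  simp only [selK_eq, Nat.testBit_two_pow]
  interval_cases k <;> simp

theorem app_xor (i v w : ℕ) : app i (v ^^^ w) = app i v ^^^ app i w := aplK_xor _ v w

theorem app_lt (i v : ℕ) : app i v < 64 := aplK_lt _ v

theorem app_zero (i : ℕ) : app i 0 = 0 := aplK_zero _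

/-- a translation as a matrix -/
abbrev trM (v : ℕ) : Matrix (Fin 7) (Fin 7) (ZMod 2) := toMat 7 (transl v)

/-- a linear part as a matrix -/
abbrev sM (i : ℕ) : Matrix (Fin 7) (Fin 7) (ZMod 2) := toMat 7 (stabAt i)

theorem transl_facts : ∀ v : Fin 64, transl v < 2 ^ 49 ∧ transl v &&& transl 63 = transl v ∧
    (∀ w : Fin 64, transl (v.1 ^^^ w.1) = transl v ^^^ transl w ∧ (transl v = transl w → v = w)) ∧
    (∀ i : Fin 7, row 7 (transl v) i = 0 ∨ row 7 (transl v) i = 64) ∧
    packUpto 7 (row 7 (transl v)) 7 = transl v ∧ row 7 (transl v) 6 = 0 := by decide +kernel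

theorem transl_lt {v : ℕ} (hv : v < 64) : transl v < 2 ^ 49 := (transl_facts ⟨v, hv⟩).1

theorem transl_xor {v w : ℕ} (hv : v < 64) (hw : w < 64) : transl (v ^^^ w) = transl v ^^^ transl w :=
  ((transl_facts ⟨v, hv⟩).2.2.1 ⟨w, hw⟩).1

theorem transl_inj {v w : ℕ} (hv : v < 64) (hw : w < 64) (h : transl v = transl w) : v = w :=
  congrArg Fin.val (((transl_facts ⟨v, hv⟩).2.2.1 ⟨w, hw⟩).2 h)

theorem trM_xor {v w : ℕ} (hv : v < 64) (hw : w < 64) : trM (v ^^^ w) = trM v + trM w := by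
  rw [trM, transl_xor hv hw, toMat_xor]

theorem trM_zero : trM 0 = 0 := by
  ext i j
  show sc ((transl 0).testBit _) = 0
  rw [show transl 0 = 0 by decide, Nat.zero_testBit]
  rfl

theorem trM_inj {v w : ℕ} (hv : v < 64) (hw : w < 64) (h : trM v = trM w) : v = w :=
  transl_inj hv hw (toMat_inj (transl_lt hv) (transl_lt hw) h)

theorem pack_congr {f g : ℕ → ℕ} : ∀ m : ℕ, (∀ i < m, f i = g i) → packUpto 7 f m = packUpto 7 g m := by
  intro m
  induction m with
  | zero => intro _; rfl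
  | succ m ih =>
    intro h
    rw [packUpto_succ, packUpto_succ, ih (fun i hi => h i (Nat.lt_succ_of_lt hi)), h m m.lt_succ_self]

theorem trM_mul {v b r : ℕ} (hv : v < 64) (hb : row 7 b 6 = r) (hr : r = 0 ∨ r = 64) :
    trM v * toMat 7 b = if r = 64 then trM v else 0 := by
  have hsel : ∀ x, x = 0 ∨ x = 64 → vmulUpto 7 x b 7 = if r = 64 then x else 0 := by
    intro x hx
    simp only [vmulUpto_succ, show ∀ a, vmulUpto 7 a b 0 = 0 from fun _ => rfl, hb]
    rcases hx with rfl | rfl <;> rcases hr with rfl | rfl <;> simp [Nat.testBit_eq_decide_div_mod_eq]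
  rw [← toMat_bmul, bmul]
  rcases hr with rfl | rfl
  · rw [if_neg (by norm_num), pack_congr 7 (g := fun _ => 0) fun i hi => by
      simpa using hsel _ ((transl_facts ⟨v, hv⟩).2.2.2.1 ⟨i, hi⟩)]
    ext i j
    show sc ((packUpto 7 (fun _ => 0) 7).testBit _) = 0
    rw [show packUpto 7 (fun _ => 0) 7 = 0 by decide, Nat.zero_testBit]
    rfl
  · rw [if_pos rfl, pack_congr 7 (g := row 7 (transl v)) fun i hi => by
      simpa using hsel _ ((transl_facts ⟨v, hv⟩).2.2.2.1 ⟨i, hi⟩)]
    exact congrArg (toMat 7) (transl_facts ⟨v, hv⟩).2.2.2.2.1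

theorem trM_trM {v w : ℕ} (hv : v < 64) (hw : w < 64) : trM v * trM w = 0 := by
  rw [trM_mul hv (transl_facts ⟨w, hw⟩).2.2.2.2.2 (Or.inl rfl), if_neg (by norm_num)]

theorem lin_facts {i : ℕ} (hi : i < 2160) : stabAt i < 2 ^ 49 ∧ row 7 (stabAt i) 6 = 64 ∧ keyAt i < 2 ^ 36 ∧
    stabAt i &&& transl 63 = 0 ∧ ∀ k < 6, mM (stabAt i) (transl (2 ^ k)) = transl (app i (2 ^ k)) := by
  have h := allB_spec lin_ok i hi
  simp only [linOK, Bool.and_eq_true, Nat.blt_eq, Nat.beq_eq, List.all_eq_true, List.mem_range] at h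
  obtain ⟨⟨⟨⟨h1, h2⟩, h3⟩, h4⟩, h5⟩ := h
  refine ⟨h1, ?_, h3, h4, fun k hk => by rw [h5 k hk, app, aplK_unit _ hk]⟩
  show (stabAt i >>> (7 * 6)) % 2 ^ 7 = 64
  rw [show 7 * 6 = 42 from rfl, show stabAt i >>> 42 = 64 from h2]
  rfl

theorem trM_sM {i v : ℕ} (hi : i < 2160) (hv : v < 64) : trM v * sM i = trM v := by
  rw [trM_mul hv (lin_facts hi).2.1 (Or.inr rfl), if_pos rfl]

theorem sM_trM {i : ℕ} (hi : i < 2160) : ∀ v < 64, sM i * trM v = trM (app i v) := by
  refine lin_ext ?_ ?_ ?_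
  · rw [app_zero, trM_zero, Matrix.mul_zero]
  · intro k hk
    rw [← toMat_bmul]
    exact congrArg (toMat 7) ((lin_facts hi).2.2.2.2 k hk)
  · intro v hv w hw h1 h2
    rw [trM_xor hv hw, Matrix.mul_add, h1, h2, app_xor, trM_xor (app_lt _ _) (app_lt _ _)]

theorem md_eq {i v : ℕ} (hi : i < 2160) (hv : v < 64) : md (64 * i + v) = stabAt i ^^^ transl v := by
  rw [md, show (64 * i + v) / 64 = i by omega, show (64 * i + v) % 64 = v by omega]
  show stabAt i ||| transl v = _
  refine Nat.eq_of_testBit_eq fun k => ?_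
  have h1 : (stabAt i).testBit k = true → (transl 63).testBit k = false := fun h => by
    have := congrArg (·.testBit k) (lin_facts hi).2.2.2.1
    simp only [Nat.testBit_and, h, Bool.true_and, Nat.zero_testBit] at this
    exact this
  have h2 : (transl v).testBit k = true → (transl 63).testBit k = true := fun h => by
    have := congrArg (·.testBit k) (transl_facts ⟨v, hv⟩).2.1
    simp only [Nat.testBit_and, h, Bool.true_and] at this
    exact this
  rw [Nat.testBit_or, Nat.testBit_xor]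
  cases hs : (stabAt i).testBit k <;> cases ht : (transl v).testBit k <;> simp_all

theorem md_lt {i v : ℕ} (hi : i < 2160) (hv : v < 64) : md (64 * i + v) < 2 ^ 49 := by
  rw [md_eq hi hv]; exact Nat.xor_lt_two_pow (lin_facts hi).1 (transl_lt hv)

theorem inM_md {i v : ℕ} (hi : i < 2160) (hv : v < 64) : InM (md (64 * i + v)) :=
  ⟨64 * i + v, by omega, rfl⟩

theorem inM_cases {a : ℕ} (h : InM a) : ∃ i < 2160, ∃ v < 64, a = md (64 * i + v) := by
  obtain ⟨k, hk, rfl⟩ := h
  exact ⟨k / 64, by omega, k % 64, by omega, by rw [Nat.div_add_mod]⟩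

/-- the product of a linear part with another one, as a relation -/
def IsProd (i j k : ℕ) : Prop := k < 2160 ∧ sM i * sM j = sM k

theorem md_mul {i j k v w : ℕ} (hi : i < 2160) (hj : j < 2160) (hk : IsProd i j k) (hv : v < 64) (hw : w < 64) :
    mM (md (64 * i + v)) (md (64 * j + w)) = md (64 * k + (v ^^^ app i w)) := by
  have hx : v ^^^ app i w < 64 := Nat.xor_lt_two_pow (n := 6) hv (app_lt _ _)
  refine toMat_inj (bmul_lt 7 _ _) (md_lt hk.1 hx) ?_
  show toMat 7 (bmul 7 _ _) = _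
  rw [toMat_bmul, md_eq hi hv, md_eq hj hw, md_eq hk.1 hx, toMat_xor, toMat_xor, toMat_xor, Matrix.add_mul,
    Matrix.mul_add, Matrix.mul_add]
  show sM i * sM j + sM i * trM w + (trM v * sM j + trM v * trM w) = sM k + trM (v ^^^ app i w)
  rw [hk.2, sM_trM hi w hw, trM_sM hj hv, trM_trM hv hw, trM_xor hv (app_lt _ _)]
  abel

theorem isProd_app {i j k : ℕ} (hi : i < 2160) (hj : j < 2160) (hk : IsProd i j k) :
    ∀ v < 64, app k v = app i (app j v) := by
  intro v hv
  refine trM_inj (app_lt _ _) (app_lt _ _) ?_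
  rw [← sM_trM hk.1 v hv, ← hk.2, Matrix.mul_assoc, sM_trM hj v hv, sM_trM hi _ (app_lt _ _)]

theorem isProd_of_code {i j k : ℕ} (hk : k < 2160) (h : mM (stabAt i) (stabAt j) = stabAt k) : IsProd i j k :=
  ⟨hk, by rw [← toMat_bmul]; exact congrArg (toMat 7) h⟩

theorem base_facts : stabAt idI = oneM ∧ idI < 2160 ∧ zI1 < 2160 ∧ zI2 < 2160 ∧
    mM (stabAt zI1) (stabAt zI1) = stabAt zI2 ∧ mM (stabAt zI2) (stabAt zI1) = oneM := by
  have h := base_ok
  simp only [baseAllOK, Bool.and_eq_true, Nat.blt_eq, Nat.beq_eq] at h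
  tauto

theorem sM_id : sM idI = 1 := by
  rw [sM, base_facts.1, show oneM = bone 7 by decide +kernel, toMat_bone]

theorem app_id : ∀ v < 64, app idI v = v := fun v hv => by
  refine trM_inj (app_lt _ _) hv ?_
  rw [← sM_trM base_facts.2.1 v hv, sM_id, Matrix.one_mul]

theorem step_facts {g i : ℕ} (hg : g < 4) (hi : i < 2160) : IsProd (genI g) i (stepI g i) := by
  have h := allB_spec step_ok (2160 * g + i) (by omega)
  simp only [show (2160 * g + i) / 2160 = g by omega, show (2160 * g + i) % 2160 = i by omega, stepOK,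
    Bool.and_eq_true, Nat.blt_eq, Nat.beq_eq] at h
  exact isProd_of_code h.1 h.2

theorem genI_lt {g : ℕ} (hg : g < 4) : genI g < 2160 := by
  have h := base_ok
  simp only [baseAllOK, Bool.and_eq_true, Nat.blt_eq, List.all_eq_true, List.mem_range] at h
  exact h.1.1.1.1.2 g hg

theorem stab_induction {P : ℕ → Prop} (h0 : P idI) (hs : ∀ g < 4, ∀ i < 2160, P i → P (stepI g i)) :
    ∀ i < 2160, P i := by
  intro i
  induction hd : parI i / 16384 using Nat.strong_induction_on generalizing i with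
  | _ n ih =>
    intro hi
    have h := allB_spec tree_ok i hi
    simp only [treeOK, Bool.or_eq_true, Bool.and_eq_true, Nat.beq_eq, Nat.blt_eq] at h
    rcases h with rfl | ⟨⟨⟨hg, hp⟩, hlt⟩, he⟩
    · exact h0
    · rw [← he]
      exact hs _ hg _ hp (ih _ (hd ▸ hlt) _ rfl hp)

theorem exists_prod : ∀ i < 2160, ∀ j < 2160, ∃ k, IsProd i j k := by
  refine stab_induction (fun j hj => ⟨j, hj, by rw [sM_id, Matrix.one_mul]⟩) ?_
  intro g hg i hi ih j hj
  obtain ⟨k, hk⟩ := ih j hj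
  refine ⟨stepI g k, (step_facts hg hk.1).1, ?_⟩
  rw [← (step_facts hg hi).2, Matrix.mul_assoc, hk.2, (step_facts hg hk.1).2]

theorem app_inj_index {i j : ℕ} (hi : i < 2160) (hj : j < 2160) (h : ∀ v < 64, app i v = app j v) : i = j := by
  have hk : revKey (keyAt i) = revKey (keyAt j) := by
    have e : ∀ k < 6, pk (keyAt i) 6 k = pk (keyAt j) 6 k := fun k hk => by
      rw [← aplK_unit _ hk, ← aplK_unit _ hk]
      exact h _ (Nat.pow_lt_pow_right (by norm_num) hk (a := 2))
    simp only [revKey, e 0 (by norm_num), e 1 (by norm_num), e 2 (by norm_num), e 3 (by norm_num),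
      e 4 (by norm_num), e 5 (by norm_num)]
  have mono : ∀ b a, a < b → b < 2160 → revKey (keyAt a) < revKey (keyAt b) := by
    intro b
    induction b with
    | zero => intro a h; omega
    | succ b ih =>
      intro a hab hb
      have hs := allB_spec inc_ok b (by omega)
      rw [incOK, Nat.blt_eq] at hs
      rcases Nat.lt_succ_iff_lt_or_eq.1 hab with h' | rfl
      · exact (ih a h' (by omega)).trans hs
      · exact hs
  rcases lt_trichotomy i j with h' | h' | h'
  · exact absurd hk (mono j i h' hj).ne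
  · exact h'
  · exact absurd hk (mono i j h' hi).ne'

theorem md_inj {i j v w : ℕ} (hi : i < 2160) (hj : j < 2160) (hv : v < 64) (hw : w < 64)
    (h : md (64 * i + v) = md (64 * j + w)) : i = j ∧ v = w := by
  rw [md_eq hi hv, md_eq hj hw] at h
  have hmask : ∀ {i v : ℕ}, i < 2160 → v < 64 → (stabAt i ^^^ transl v) &&& transl 63 = transl v := by
    intro i v hi hv
    rw [Nat.and_xor_distrib_right, (lin_facts hi).2.2.2.1, (transl_facts ⟨v, hv⟩).2.1, Nat.zero_xor]
  have hvw : v = w := transl_inj hv hw (by rw [← hmask hi hv, h, hmask hj hw])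
  subst hvw
  have hs : stabAt i = stabAt j := Nat.xor_right_injective.eq_iff.1 (by rwa [Nat.xor_comm, Nat.xor_comm (stabAt j)] at h)
  refine ⟨app_inj_index hi hj fun u hu => trM_inj (app_lt _ _) (app_lt _ _) ?_, rfl⟩
  rw [← sM_trM hi u hu, ← sM_trM hj u hu, sM, hs]

end Cfsg.Agent.HeUniq.Local
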