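import Cfsg.Agent.Lib.HeUniq.Model.Code
import Cfsg.Agent.Lib.HeUniq.Local.StabData
import Cfsg.Agent.Lib.HeUniq.Local.PairData

/-!
The amalgam of a Held type group: the centraliser of the involution and two copies of the normaliser of an
elementary group of order 64, with their identifications.
-/

set_option autoImplicit false

namespace Cfsg.Agent.HeUniq.Local

open Cfsg.Agent.HeUniq.Model

/-- product in the affine group -/
def mM (a b : ℕ) : ℕ := Bit.bmul 7 a b

/-- the `i`-th linear part, as an affine code -/
def stabAt (i : ℕ) : ℕ := Nat.mod (Nat.shiftRight (stabPack (i / 216)) (Nat.mul 49 (i % 216))) (Nat.pow 2 49)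

/-- the translation by a vector, as bits in the last column -/
def transl (v : ℕ) : ℕ :=
  v % 2 * 64 + v / 2 % 2 * 8192 + v / 4 % 2 * 1048576 + v / 8 % 2 * 134217728 + v / 16 % 2 * 17179869184 +
    v / 32 % 2 * 2199023255552

/-- the elements of the affine group -/
def md (k : ℕ) : ℕ := Nat.lor (stabAt (k / 64)) (transl (k % 64))

/-- the identity of the affine group -/
def oneM : ℕ := 282578800148737

/-- membership of the affine group -/
def InM (a : ℕ) : Prop := ∃ k < 138240, md k = a

/-- a pair: centraliser code and affine code -/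
def pairAt (j : ℕ) : ℕ := Nat.mod (Nat.shiftRight (pairPack (j / 256)) (Nat.mul 74 (j % 256))) (Nat.pow 2 74)

/-- the centraliser code of a pair -/
def pC (j : ℕ) : ℕ := pairAt j % 33554432

/-- the affine code of a pair -/
def pM (j : ℕ) : ℕ := pairAt j / 33554432

/-- the glued element -/
def s0 : ℕ := 281822072279580

/-- the amalgam inside a group -/
structure Amalgam (G : Type*) [Group G] where
  /-- the centraliser -/
  fC : ℕ → G
  /-- the first normaliser -/
  f0 : ℕ → G
  /-- the second normaliser -/
  f1 : ℕ → G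
  mulC : ∀ i < 21504, ∀ j < 21504, fC (mC (cd i) (cd j)) = fC (cd i) * fC (cd j)
  injC : ∀ i < 21504, ∀ j < 21504, fC (cd i) = fC (cd j) → cd i = cd j
  mul0 : ∀ a b, InM a → InM b → f0 (mM a b) = f0 a * f0 b
  mul1 : ∀ a b, InM a → InM b → f1 (mM a b) = f1 a * f1 b
  pair0 : ∀ j < 3072, f0 (pM j) = fC (pC j)
  pair1 : ∀ j < 3072, f1 (pM j) = fC (theta (pC j))
  glue : f1 s0 = f0 s0

end Cfsg.Agent.HeUniq.Local
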