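import Cfsg.Agent.Lib.HeUniq.Local.Side

/-! Data for the glue of the two normalisers: pairs of the second elementary group and word witnesses. -/

set_option autoImplicit false
set_option maxRecDepth 100000

namespace Cfsg.Agent.HeUniq.Glue

/-- a step of a word in both sides: the letters and the indices of the running products -/
structure Step where
  j : ℕ
  j' : ℕ
  l : ℕ
  l' : ℕ
  k : ℕ
  k' : ℕ

/-- pairs of the translations -/
def tPair : List ℕ := [512, 520, 513, 521, 544, 552, 545, 553, 640, 648, 641, 649, 672, 680, 673, 681, 768, 776, 769, 777, 800, 808, 801, 809, 896, 904, 897, 905, 928, 936, 929, 937, 2048, 2056, 2049, 2057, 2080, 2088, 2081, 2089, 2176, 2184, 2177, 2185, 2208, 2216, 2209, 2217, 2304, 2312, 2305, 2313, 2336, 2344, 2337, 2345, 2432, 2440, 2433, 2441, 2464, 2472, 2465, 2473]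

/-- pairs of the second elementary group in the first side -/
def ePair : List ℕ := [512, 520, 2048, 2056, 1024, 1032, 2560, 2568, 514, 522, 2050, 2058, 1026, 1034, 2562, 2570, 768, 776, 2304, 2312, 1280, 1288, 2816, 2824, 770, 778, 2306, 2314, 1282, 1290, 2818, 2826, 513, 521, 2049, 2057, 1025, 1033, 2561, 2569, 515, 523, 2051, 2059, 1027, 1035, 2563, 2571, 769, 777, 2305, 2313, 1281, 1289, 2817, 2825, 771, 779, 2307, 2315, 1283, 1291, 2819, 2827]

/-- indices of the second elementary group -/
def eInd : List ℕ := [9728, 9792, 9732, 9796, 15872, 15936, 15876, 15940, 9744, 9808, 9748, 9812, 15888, 15952, 15892, 15956, 12800, 12864, 12804, 12868, 18944, 19008, 18948, 19012, 12816, 12880, 12820, 12884, 18960, 19024, 18964, 19028, 9736, 9800, 9740, 9804, 15880, 15944, 15884, 15948, 9752, 9816, 9756, 9820, 15896, 15960, 15900, 15964, 12808, 12872, 12812, 12876, 18952, 19016, 18956, 19020, 12824, 12888, 12828, 12892, 18968, 19032, 18972, 19036]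

/-- indices of the second elementary group in the affine group -/
def eLin : List ℕ := [0, 1, 32, 33, 1153, 1152, 1185, 1184, 289, 288, 257, 256, 1440, 1441, 1408, 1409, 16, 17, 48, 49, 1169, 1168, 1201, 1200, 305, 304, 273, 272, 1456, 1457, 1424, 1425, 2, 3, 34, 35, 1155, 1154, 1187, 1186, 291, 290, 259, 258, 1442, 1443, 1410, 1411, 18, 19, 50, 51, 1171, 1170, 1203, 1202, 307, 306, 275, 274, 1458, 1459, 1426, 1427]

/-- the linear part with the action of the glued element -/
def linIdx : ℕ := 440

/-- indices of the candidates -/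
def cand : List ℕ := [28160, 28176, 28192, 28208, 28187, 28171, 28219, 28203, 28213, 28197, 28181, 28165, 28206, 28222, 28174, 28190, 28161, 28177, 28193, 28209, 28186, 28170, 28218, 28202, 28212, 28196, 28180, 28164, 28207, 28223, 28175, 28191, 28162, 28178, 28194, 28210, 28185, 28169, 28217, 28201, 28215, 28199, 28183, 28167, 28204, 28220, 28172, 28188, 28163, 28179, 28195, 28211, 28184, 28168, 28216, 28200, 28214, 28198, 28182, 28166, 28205, 28221, 28173, 28189]

/-- images of the basis under the glued element -/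
def image : List ℕ := [16, 32, 27, 53, 1, 2]

/-- words refuting candidate 0 -/
def words0 : List Step × List Step :=
  ([],
   [])

/-- words refuting candidate 1 -/
def words1 : List Step × List Step :=
  ([⟨3072, 3072, 28160, 28176, 28160, 28176⟩, ⟨3072, 3072, 28160, 28176, 0, 17⟩],
   [])

/-- words refuting candidate 2 -/
def words2 : List Step × List Step :=
  ([⟨3072, 3072, 28160, 28192, 28160, 28192⟩, ⟨3072, 3072, 28160, 28192, 0, 34⟩],
   [])

/-- words refuting candidate 3 -/
def words3 : List Step × List Step :=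
  ([⟨3072, 3072, 28160, 28208, 28160, 28208⟩, ⟨3072, 3072, 28160, 28208, 0, 51⟩],
   [])

/-- words refuting candidate 4 -/
def words4 : List Step × List Step :=
  ([⟨3072, 3072, 28160, 28187, 28160, 28187⟩, ⟨3072, 3072, 28160, 28187, 0, 31⟩],
   [])

/-- words refuting candidate 5 -/
def words5 : List Step × List Step :=
  ([⟨3072, 3072, 28160, 28171, 28160, 28171⟩, ⟨3072, 3072, 28160, 28171, 0, 14⟩],
   [])

/-- words refuting candidate 6 -/
def words6 : List Step × List Step :=
  ([⟨3072, 3072, 28160, 28219, 28160, 28219⟩, ⟨3072, 3072, 28160, 28219, 0, 61⟩],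
   [])

/-- words refuting candidate 7 -/
def words7 : List Step × List Step :=
  ([⟨3072, 3072, 28160, 28203, 28160, 28203⟩, ⟨3072, 3072, 28160, 28203, 0, 44⟩],
   [])

/-- words refuting candidate 8 -/
def words8 : List Step × List Step :=
  ([⟨3072, 3072, 28160, 28213, 28160, 28213⟩, ⟨3072, 3072, 28160, 28213, 0, 61⟩],
   [])

/-- words refuting candidate 9 -/
def words9 : List Step × List Step :=
  ([⟨3072, 3072, 28160, 28197, 28160, 28197⟩, ⟨3072, 3072, 28160, 28197, 0, 44⟩],
   [])

/-- words refuting candidate 10 -/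
def words10 : List Step × List Step :=
  ([⟨3072, 3072, 28160, 28181, 28160, 28181⟩, ⟨3072, 3072, 28160, 28181, 0, 31⟩],
   [])

/-- words refuting candidate 11 -/
def words11 : List Step × List Step :=
  ([⟨3072, 3072, 28160, 28165, 28160, 28165⟩, ⟨3072, 3072, 28160, 28165, 0, 14⟩],
   [])

/-- words refuting candidate 12 -/
def words12 : List Step × List Step :=
  ([⟨3072, 3072, 28160, 28206, 28160, 28206⟩, ⟨3072, 3072, 28160, 28206, 0, 34⟩],
   [])

/-- words refuting candidate 13 -/
def words13 : List Step × List Step :=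
  ([⟨3072, 3072, 28160, 28222, 28160, 28222⟩, ⟨3072, 3072, 28160, 28222, 0, 51⟩],
   [])

/-- words refuting candidate 14 -/
def words14 : List Step × List Step :=
  ([⟨513, 2048, 2, 32, 2, 32⟩, ⟨516, 528, 73, 1537, 75, 1569⟩, ⟨3072, 3072, 28160, 28174, 28293, 30236⟩, ⟨544, 1024, 4, 1153, 28289, 29741⟩, ⟨3072, 3072, 28160, 28174, 80, 1842⟩],
   [⟨3072, 3072, 28160, 28174, 28160, 28174⟩, ⟨544, 1024, 4, 1153, 28164, 28991⟩, ⟨3072, 3072, 28160, 28174, 27, 275⟩, ⟨516, 528, 73, 1537, 80, 1843⟩])

/-- words refuting candidate 15 -/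
def words15 : List Step × List Step :=
  ([⟨3072, 3072, 28160, 28190, 28160, 28190⟩, ⟨3072, 3072, 28160, 28190, 0, 17⟩],
   [])

/-- words refuting candidate 16 -/
def words16 : List Step × List Step :=
  ([⟨3072, 3072, 28160, 28161, 28160, 28161⟩, ⟨3072, 3072, 28160, 28161, 0, 17⟩],
   [])

/-- words refuting candidate 17 -/
def words17 : List Step × List Step :=
  ([],
   [])

/-- words refuting candidate 18 -/
def words18 : List Step × List Step :=
  ([⟨3072, 3072, 28160, 28193, 28160, 28193⟩, ⟨3072, 3072, 28160, 28193, 0, 51⟩],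
   [])

/-- words refuting candidate 19 -/
def words19 : List Step × List Step :=
  ([⟨3072, 3072, 28160, 28209, 28160, 28209⟩, ⟨3072, 3072, 28160, 28209, 0, 34⟩],
   [])

/-- words refuting candidate 20 -/
def words20 : List Step × List Step :=
  ([⟨3072, 3072, 28160, 28186, 28160, 28186⟩, ⟨3072, 3072, 28160, 28186, 0, 14⟩],
   [])

/-- words refuting candidate 21 -/
def words21 : List Step × List Step :=
  ([⟨3072, 3072, 28160, 28170, 28160, 28170⟩, ⟨3072, 3072, 28160, 28170, 0, 31⟩],
   [])

/-- words refuting candidate 22 -/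
def words22 : List Step × List Step :=
  ([⟨3072, 3072, 28160, 28218, 28160, 28218⟩, ⟨3072, 3072, 28160, 28218, 0, 44⟩],
   [])

/-- words refuting candidate 23 -/
def words23 : List Step × List Step :=
  ([⟨3072, 3072, 28160, 28202, 28160, 28202⟩, ⟨3072, 3072, 28160, 28202, 0, 61⟩],
   [])

/-- words refuting candidate 24 -/
def words24 : List Step × List Step :=
  ([⟨3072, 3072, 28160, 28212, 28160, 28212⟩, ⟨3072, 3072, 28160, 28212, 0, 44⟩],
   [])

/-- words refuting candidate 25 -/
def words25 : List Step × List Step :=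
  ([⟨3072, 3072, 28160, 28196, 28160, 28196⟩, ⟨3072, 3072, 28160, 28196, 0, 61⟩],
   [])

/-- words refuting candidate 26 -/
def words26 : List Step × List Step :=
  ([⟨3072, 3072, 28160, 28180, 28160, 28180⟩, ⟨3072, 3072, 28160, 28180, 0, 14⟩],
   [])

/-- words refuting candidate 27 -/
def words27 : List Step × List Step :=
  ([⟨3072, 3072, 28160, 28164, 28160, 28164⟩, ⟨3072, 3072, 28160, 28164, 0, 31⟩],
   [])

/-- words refuting candidate 28 -/
def words28 : List Step × List Step :=
  ([⟨3072, 3072, 28160, 28207, 28160, 28207⟩, ⟨3072, 3072, 28160, 28207, 0, 51⟩],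
   [])

/-- words refuting candidate 29 -/
def words29 : List Step × List Step :=
  ([⟨3072, 3072, 28160, 28223, 28160, 28223⟩, ⟨3072, 3072, 28160, 28223, 0, 34⟩],
   [])

/-- words refuting candidate 30 -/
def words30 : List Step × List Step :=
  ([⟨3072, 3072, 28160, 28175, 28160, 28175⟩, ⟨3072, 3072, 28160, 28175, 0, 17⟩],
   [])

/-- words refuting candidate 31 -/
def words31 : List Step × List Step :=
  ([⟨513, 2048, 2, 32, 2, 32⟩, ⟨516, 528, 73, 1537, 75, 1569⟩, ⟨3072, 3072, 28160, 28191, 28293, 30221⟩, ⟨544, 1024, 4, 1153, 28289, 29756⟩, ⟨3072, 3072, 28160, 28191, 80, 1842⟩],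
   [⟨3072, 3072, 28160, 28191, 28160, 28191⟩, ⟨544, 1024, 4, 1153, 28164, 28974⟩, ⟨3072, 3072, 28160, 28191, 27, 275⟩, ⟨516, 528, 73, 1537, 80, 1843⟩])

/-- words refuting candidate 32 -/
def words32 : List Step × List Step :=
  ([⟨3072, 3072, 28160, 28162, 28160, 28162⟩, ⟨3072, 3072, 28160, 28162, 0, 34⟩],
   [])

/-- words refuting candidate 33 -/
def words33 : List Step × List Step :=
  ([⟨3072, 3072, 28160, 28178, 28160, 28178⟩, ⟨3072, 3072, 28160, 28178, 0, 51⟩],
   [])

/-- words refuting candidate 34 -/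
def words34 : List Step × List Step :=
  ([⟨513, 2048, 2, 32, 2, 32⟩, ⟨516, 528, 73, 1537, 75, 1569⟩, ⟨528, 516, 1537, 73, 1611, 1641⟩, ⟨3072, 3072, 28160, 28194, 30405, 30405⟩, ⟨516, 528, 73, 1537, 33484, 102220⟩, ⟨528, 516, 1537, 73, 105285, 105285⟩],
   [⟨3072, 3072, 28160, 28194, 28160, 28194⟩, ⟨513, 2048, 2, 32, 28162, 28162⟩, ⟨516, 528, 73, 1537, 31243, 103938⟩, ⟨528, 516, 1537, 73, 107275, 107275⟩, ⟨3072, 3072, 28160, 28194, 105285, 105319⟩])

/-- words refuting candidate 35 -/
def words35 : List Step × List Step :=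
  ([⟨3072, 3072, 28160, 28210, 28160, 28210⟩, ⟨3072, 3072, 28160, 28210, 0, 17⟩],
   [])

/-- words refuting candidate 36 -/
def words36 : List Step × List Step :=
  ([⟨3072, 3072, 28160, 28185, 28160, 28185⟩, ⟨3072, 3072, 28160, 28185, 0, 61⟩],
   [])

/-- words refuting candidate 37 -/
def words37 : List Step × List Step :=
  ([⟨3072, 3072, 28160, 28169, 28160, 28169⟩, ⟨3072, 3072, 28160, 28169, 0, 44⟩],
   [])

/-- words refuting candidate 38 -/
def words38 : List Step × List Step :=
  ([⟨3072, 3072, 28160, 28217, 28160, 28217⟩, ⟨3072, 3072, 28160, 28217, 0, 31⟩],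
   [])

/-- words refuting candidate 39 -/
def words39 : List Step × List Step :=
  ([⟨3072, 3072, 28160, 28201, 28160, 28201⟩, ⟨3072, 3072, 28160, 28201, 0, 14⟩],
   [])

/-- words refuting candidate 40 -/
def words40 : List Step × List Step :=
  ([⟨3072, 3072, 28160, 28215, 28160, 28215⟩, ⟨3072, 3072, 28160, 28215, 0, 31⟩],
   [])

/-- words refuting candidate 41 -/
def words41 : List Step × List Step :=
  ([⟨3072, 3072, 28160, 28199, 28160, 28199⟩, ⟨3072, 3072, 28160, 28199, 0, 14⟩],
   [])

/-- words refuting candidate 42 -/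
def words42 : List Step × List Step :=
  ([⟨3072, 3072, 28160, 28183, 28160, 28183⟩, ⟨3072, 3072, 28160, 28183, 0, 61⟩],
   [])

/-- words refuting candidate 43 -/
def words43 : List Step × List Step :=
  ([⟨3072, 3072, 28160, 28167, 28160, 28167⟩, ⟨3072, 3072, 28160, 28167, 0, 44⟩],
   [])

/-- words refuting candidate 44 -/
def words44 : List Step × List Step :=
  ([⟨513, 2048, 2, 32, 2, 32⟩, ⟨516, 528, 73, 1537, 75, 1569⟩, ⟨3072, 3072, 28160, 28204, 28293, 30270⟩, ⟨544, 1024, 4, 1153, 28289, 29711⟩, ⟨3072, 3072, 28160, 28204, 80, 1842⟩],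
   [⟨3072, 3072, 28160, 28204, 28160, 28204⟩, ⟨544, 1024, 4, 1153, 28164, 28957⟩, ⟨3072, 3072, 28160, 28204, 27, 275⟩, ⟨516, 528, 73, 1537, 80, 1843⟩])

/-- words refuting candidate 45 -/
def words45 : List Step × List Step :=
  ([⟨3072, 3072, 28160, 28220, 28160, 28220⟩, ⟨3072, 3072, 28160, 28220, 0, 17⟩],
   [])

/-- words refuting candidate 46 -/
def words46 : List Step × List Step :=
  ([⟨3072, 3072, 28160, 28172, 28160, 28172⟩, ⟨3072, 3072, 28160, 28172, 0, 34⟩],
   [])

/-- words refuting candidate 47 -/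
def words47 : List Step × List Step :=
  ([⟨3072, 3072, 28160, 28188, 28160, 28188⟩, ⟨3072, 3072, 28160, 28188, 0, 51⟩],
   [])

/-- words refuting candidate 48 -/
def words48 : List Step × List Step :=
  ([⟨3072, 3072, 28160, 28163, 28160, 28163⟩, ⟨3072, 3072, 28160, 28163, 0, 51⟩],
   [])

/-- words refuting candidate 49 -/
def words49 : List Step × List Step :=
  ([⟨3072, 3072, 28160, 28179, 28160, 28179⟩, ⟨3072, 3072, 28160, 28179, 0, 34⟩],
   [])

/-- words refuting candidate 50 -/
def words50 : List Step × List Step :=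
  ([⟨3072, 3072, 28160, 28195, 28160, 28195⟩, ⟨3072, 3072, 28160, 28195, 0, 17⟩],
   [])

/-- words refuting candidate 51 -/
def words51 : List Step × List Step :=
  ([⟨513, 2048, 2, 32, 2, 32⟩, ⟨516, 528, 73, 1537, 75, 1569⟩, ⟨528, 516, 1537, 73, 1611, 1641⟩, ⟨3072, 3072, 28160, 28211, 30405, 30420⟩, ⟨516, 528, 73, 1537, 33484, 102269⟩, ⟨528, 516, 1537, 73, 105285, 105335⟩],
   [⟨3072, 3072, 28160, 28211, 28160, 28211⟩, ⟨513, 2048, 2, 32, 28162, 28179⟩, ⟨516, 528, 73, 1537, 31243, 103987⟩, ⟨528, 516, 1537, 73, 107275, 107321⟩, ⟨3072, 3072, 28160, 28211, 105285, 105301⟩])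

/-- words refuting candidate 52 -/
def words52 : List Step × List Step :=
  ([⟨3072, 3072, 28160, 28184, 28160, 28184⟩, ⟨3072, 3072, 28160, 28184, 0, 44⟩],
   [])

/-- words refuting candidate 53 -/
def words53 : List Step × List Step :=
  ([⟨3072, 3072, 28160, 28168, 28160, 28168⟩, ⟨3072, 3072, 28160, 28168, 0, 61⟩],
   [])

/-- words refuting candidate 54 -/
def words54 : List Step × List Step :=
  ([⟨3072, 3072, 28160, 28216, 28160, 28216⟩, ⟨3072, 3072, 28160, 28216, 0, 14⟩],
   [])

/-- words refuting candidate 55 -/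
def words55 : List Step × List Step :=
  ([⟨3072, 3072, 28160, 28200, 28160, 28200⟩, ⟨3072, 3072, 28160, 28200, 0, 31⟩],
   [])

/-- words refuting candidate 56 -/
def words56 : List Step × List Step :=
  ([⟨3072, 3072, 28160, 28214, 28160, 28214⟩, ⟨3072, 3072, 28160, 28214, 0, 14⟩],
   [])

/-- words refuting candidate 57 -/
def words57 : List Step × List Step :=
  ([⟨3072, 3072, 28160, 28198, 28160, 28198⟩, ⟨3072, 3072, 28160, 28198, 0, 31⟩],
   [])

/-- words refuting candidate 58 -/
def words58 : List Step × List Step :=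
  ([⟨3072, 3072, 28160, 28182, 28160, 28182⟩, ⟨3072, 3072, 28160, 28182, 0, 44⟩],
   [])

/-- words refuting candidate 59 -/
def words59 : List Step × List Step :=
  ([⟨3072, 3072, 28160, 28166, 28160, 28166⟩, ⟨3072, 3072, 28160, 28166, 0, 61⟩],
   [])

/-- words refuting candidate 60 -/
def words60 : List Step × List Step :=
  ([⟨3072, 3072, 28160, 28205, 28160, 28205⟩, ⟨3072, 3072, 28160, 28205, 0, 17⟩],
   [])

/-- words refuting candidate 61 -/
def words61 : List Step × List Step :=
  ([⟨513, 2048, 2, 32, 2, 32⟩, ⟨516, 528, 73, 1537, 75, 1569⟩, ⟨3072, 3072, 28160, 28221, 28293, 30255⟩, ⟨544, 1024, 4, 1153, 28289, 29726⟩, ⟨3072, 3072, 28160, 28221, 80, 1842⟩],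
   [⟨3072, 3072, 28160, 28221, 28160, 28221⟩, ⟨544, 1024, 4, 1153, 28164, 28940⟩, ⟨3072, 3072, 28160, 28221, 27, 275⟩, ⟨516, 528, 73, 1537, 80, 1843⟩])

/-- words refuting candidate 62 -/
def words62 : List Step × List Step :=
  ([⟨3072, 3072, 28160, 28173, 28160, 28173⟩, ⟨3072, 3072, 28160, 28173, 0, 51⟩],
   [])

/-- words refuting candidate 63 -/
def words63 : List Step × List Step :=
  ([⟨3072, 3072, 28160, 28189, 28160, 28189⟩, ⟨3072, 3072, 28160, 28189, 0, 34⟩],
   [])

/-- the refuting words -/
def words : List (List Step × List Step) := [words0, words1, words2, words3, words4, words5, words6, words7, words8, words9, words10, words11, words12, words13, words14, words15, words16, words17, words18, words19, words20, words21, words22, words23, words24, words25, words26, words27, words28, words29, words30, words31, words32, words33, words34, words35, words36, words37, words38, words39, words40, words41, words42, words43, words44, words45, words46, words47, words48, words49, words50, words51, words52,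 words53, words54, words55, words56, words57, words58, words59, words60, words61, words62, words63]

end Cfsg.Agent.HeUniq.Glue
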