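import Cfsg.Agent.Lib.HeUniq.Local.SideDefs

/-! The checks on the central map, the pairs and the complements, evaluated. -/

set_option autoImplicit false
set_option maxRecDepth 100000
set_option maxHeartbeats 1000000
set_option Elab.async false

namespace Cfsg.Agent.HeUniq.Local

open Cfsg.Agent.HeUniq.Model

theorem zeta_ok : allB zetaOK 2160 = true := by decide +kernel

theorem j_ok : allB jOK 3072 = true := by decide +kernel

theorem coc_ok : allB cocOK 4096 = true := by decide +kernel

theorem centE0_ok : allB centEOK 10752 = true := by decide +kernel

theorem centE1_ok : allB (fun i => centEOK (10752 + i)) 10752 = true := by decide +kernel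

end Cfsg.Agent.HeUniq.Local
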