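import Cfsg.Agent.Lib.HeUniq.Local.Move
import Cfsg.Agent.Lib.HeUniq.Local.SideChk2

/-! Every linear part is induced by the normaliser of the elementary group. -/

set_option autoImplicit false
set_option maxRecDepth 20000

namespace Cfsg.Agent.HeUniq.Local

open Cfsg.Agent.HeUniq.Model Cfsg.Agent.HeUniq.Fus

variable {G : Type*} [Group G] {t : G} (F : Frame G t)

/-- inducing a linear part on the elementary group -/
def Lift (i : ℕ) (n : G) : Prop := ∀ v < 64, n * elt F v * n⁻¹ = elt F (app i v)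

theorem elt_inj {v w : ℕ} (hv : v < 64) (hw : w < 64) (h : elt F v = elt F w) : v = w := by
  by_contra hne
  have hx : v ^^^ w < 64 := Nat.xor_lt_two_pow (n := 6) hv hw
  have h0 : v ^^^ w ≠ 0 := fun e => hne (Nat.xor_eq_zero_iff.1 e)
  refine ((e_facts hx).2.1 h0).1 (F.inj (elt_inC hx) inC_one ?_)
  show elt F (v ^^^ w) = _
  rw [← elt_mul F hv hw, h, elt_mul F hw hw, Nat.xor_self, elt_zero, F.one]

theorem elt_sq {v : ℕ} (hv : v < 64) : elt F v * elt F v = 1 := by
  rw [elt_mul F hv hv, Nat.xor_self, elt_zero]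

theorem elt_inv {v : ℕ} (hv : v < 64) : (elt F v)⁻¹ = elt F v :=
  inv_eq_of_mul_eq_one_left (elt_sq F hv)

theorem elt_comm {v w : ℕ} (hv : v < 64) (hw : w < 64) : elt F v * elt F w = elt F w * elt F v := by
  rw [elt_mul F hv hw, elt_mul F hw hv, Nat.xor_comm]

theorem lift_one : Lift F idI 1 := fun v hv => by rw [app_id v hv, one_mul, inv_one, mul_one]

theorem lift_elt {v : ℕ} (hv : v < 64) : Lift F idI (elt F v) := fun w hw => by
  rw [app_id w hw, elt_comm F hv hw, mul_inv_cancel_right]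

theorem Lift.push {i : ℕ} {n : G} (h : Lift F i n) {v : ℕ} (hv : v < 64) :
    n * elt F v = elt F (app i v) * n :=
  mul_inv_eq_iff_eq_mul.1 (h v hv)

theorem Lift.mul {i j k : ℕ} {n m : G} (hi : i < 2160) (hj : j < 2160) (hk : IsProd i j k) (h1 : Lift F i n)
    (h2 : Lift F j m) : Lift F k (n * m) := fun v hv => by
  rw [isProd_app hi hj hk v hv, mul_inv_rev, show n * m * elt F v * (m⁻¹ * n⁻¹) = n * (m * elt F v * m⁻¹) * n⁻¹ by
    group, h2 v hv, h1 _ (app_lt _ _)]

theorem cent_elt {g : G} (hg : ∀ v < 64, g * elt F v = elt F v * g) : ∃ v < 64, g = elt F v := by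
  have ht := hg 1 (by norm_num)
  rw [elt_one] at ht
  obtain ⟨c, ⟨i, hi, rfl⟩, rfl⟩ := F.surj g ht
  have h : centEOK i = true := by
    rcases Nat.lt_or_ge i 10752 with h | h
    · exact allB_spec centE0_ok i h
    · exact allB_chunk centE1_ok h (by omega)
  simp only [centEOK, Bool.or_eq_true, List.any_eq_true, Bool.not_eq_true', List.mem_range, Nat.beq_eq] at h
  rcases h with ⟨v, hv, hne⟩ | ⟨v, hv, e⟩
  · exfalso
    have hv64 : v < 64 := by simp only [List.mem_cons, List.not_mem_nil, or_false] at hv; omega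
    have hC : InC (cd i) := inC_cd hi
    have := F.inj (hC.mul (elt_inC hv64)) ((elt_inC hv64).mul hC)
      (by rw [F.mul hC (elt_inC hv64), F.mul (elt_inC hv64) hC]; exact hg v hv64)
    rw [this, Nat.beq_refl] at hne
    exact Bool.noConfusion hne
  · exact ⟨v, hv, (congrArg F.f e).symm⟩

theorem Lift.unique {i : ℕ} {n m : G} (h1 : Lift F i n) (h2 : Lift F i m) : ∃ v < 64, m = elt F v * n := by
  suffices h : ∃ u < 64, n⁻¹ * m = elt F u by
    obtain ⟨u, hu, e⟩ := h
    exact ⟨app i u, app_lt _ _, by rw [← h1.push F hu, ← e, mul_inv_cancel_left]⟩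
  refine cent_elt F fun v hv => ?_
  refine mul_left_cancel (a := n) ?_
  rw [← mul_assoc, mul_inv_cancel_left, h2.push F hv, ← h1 v hv]
  group

theorem lift_k {a : ℕ} (ha : a < 48) : qA a < 2160 ∧ InC (kA1 a) ∧ Lift F (qA a) (F.f (kA1 a)) := by
  have h := allB_spec k_ok a ha
  simp only [kOK, Bool.and_eq_true, Nat.blt_eq, List.all_eq_true, List.mem_range, Nat.beq_eq] at h
  obtain ⟨⟨h1, h2⟩, h3⟩ := h
  have hC : InC (kA1 a) := inC_cd h1
  refine ⟨h2, hC, lin_ext ?_ ?_ ?_⟩
  · rw [app_zero, elt_zero, mul_one, mul_inv_cancel]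
  · intro k hk
    have hk64 : 2 ^ k < 64 := Nat.pow_lt_pow_right (by norm_num) hk (a := 2)
    refine mul_inv_eq_iff_eq_mul.2 ?_
    rw [elt, elt, ← F.mul hC (elt_inC hk64), h3 k hk, F.mul (elt_inC (app_lt _ _)) hC]
  · intro v hv w hw e1 e2
    rw [← elt_mul F hv hw, ← conj_mul, e1, e2, elt_mul F (app_lt _ _) (app_lt _ _), app_xor]

theorem allB_of {f : ℕ → Bool} : ∀ {n : ℕ}, (∀ i < n, f i = true) → allB f n = true := by
  intro n
  induction n with
  | zero => intro _; rfl
  | succ n ih =>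
    intro h
    show Bool.rec false (allB f n) (f n) = true
    rw [h n n.lt_succ_self]
    exact ih fun i hi => h i (Nat.lt_succ_of_lt hi)

theorem aplK_low (K : ℕ) {k : ℕ} (hk1 : 1 ≤ k) (hk : k < 6) {p : ℕ} (hp : p < 2 ^ k) :
    aplK (K % 64 ^ k) p = aplK K p := by
  have hsel : ∀ j, selK (K % 64 ^ k) p j = selK K p j := by
    intro j
    rw [selK_eq, selK_eq]
    cases hb : p.testBit j
    · rfl
    · have hjk : j < k := by
        by_contra hc
        rw [Nat.testBit_lt_two_pow (hp.trans_le (Nat.pow_le_pow_right two_pos (not_lt.1 hc)))] at hb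
        exact Bool.noConfusion hb
      simp only [cond_true]
      refine Nat.eq_of_testBit_eq fun b => ?_
      rw [show (64 : ℕ) = 2 ^ 6 from rfl, ← pow_mul, Nat.testBit_mod_two_pow, Nat.testBit_mod_two_pow,
        Nat.testBit_shiftRight, Nat.testBit_shiftRight, Nat.testBit_mod_two_pow]
      by_cases hb6 : b < 6
      · rw [decide_eq_true hb6, decide_eq_true (show 6 * j + b < 6 * k by omega)]; simp
      · rw [decide_eq_false hb6]; simp
  simp only [aplK_eq, hsel]

theorem srch_sound {s K : ℕ} (hK : ∀ p < 64, p ≠ 0 → aplK K p ≠ 0 ∧ smem p = smem (aplK K p))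
    (hK6 : K < 64 ^ 6) : ∀ n ≤ 5, srchK s n (K % 64 ^ (6 - n)) = true →
      ∃ j < 48, keyAt (cosI s j) = K := by
  intro n
  induction n with
  | zero =>
    intro _ h
    change ((List.range 48).any fun j => Nat.beq (keyAt (cosI s j)) (K % 64 ^ 6)) = true at h
    simp only [List.any_eq_true, List.mem_range, Nat.beq_eq, Nat.mod_eq_of_lt hK6] at h
    exact h
  | succ m ih =>
    intro hm h
    change allB (fun w => !consOK (5 - m) (K % 64 ^ (6 - (m + 1))) w ||
      srchK s m (Nat.add (K % 64 ^ (6 - (m + 1))) (Nat.mul w (Nat.pow 64 (5 - m))))) 64 = true at h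
    rw [show 6 - (m + 1) = 5 - m by omega] at h
    obtain ⟨k, hk⟩ : ∃ k, 5 - m = k := ⟨_, rfl⟩
    rw [hk] at h
    have hk1 : 1 ≤ k := by omega
    have hk6 : k < 6 := by omega
    have hpw : pk K 6 k < 64 := Nat.mod_lt _ (by norm_num)
    have h' := allB_spec h (pk K 6 k) hpw
    have hcons : consOK k (K % 64 ^ k) (pk K 6 k) = true := by
      refine allB_of fun p hp => ?_
      show (!Nat.beq (aplK (K % 64 ^ k) p ^^^ pk K 6 k) 0 &&
        Nat.beq (smem (2 ^ k ^^^ p)) (smem (aplK (K % 64 ^ k) p ^^^ pk K 6 k))) = true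
      have hp' : p < 2 ^ k := hp
      have h64 : 2 ^ k ^^^ p < 64 := Nat.xor_lt_two_pow (n := 6) (Nat.pow_lt_pow_right (by norm_num) hk6)
        (hp'.trans (Nat.pow_lt_pow_right (by norm_num) hk6 (a := 2)))
      have hne : 2 ^ k ^^^ p ≠ 0 := fun e => by have := Nat.xor_eq_zero_iff.1 e; omega
      obtain ⟨h1, h2⟩ := hK _ h64 hne
      rw [aplK_low K hk1 hk6 hp', Nat.xor_comm, ← aplK_unit K hk6, ← aplK_xor, h2, Nat.beq_refl, Bool.and_true,
        Bool.not_eq_true']
      exact Bool.eq_false_iff.2 fun e => h1 (Nat.eq_of_beq_eq_true e)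
    simp only [hcons, Bool.not_true, Bool.false_or] at h'
    refine ih (by omega) ?_
    rw [show 6 - m = k + 1 by omega, Nat.mod_pow_succ]
    convert h' using 2
    show _ = K % 64 ^ k + pk K 6 k * 64 ^ k
    rw [pk_six, Nat.mul_comm (_ % 64), Nat.shiftRight_eq_div_pow, pow_mul]
    rfl

theorem exists_gen_lift (hm : mask F = 123) {g : ℕ} (hg : g < 4) : ∃ n : G, Lift F (genI g) n := by
  have hb := base_ok
  simp only [baseAllOK, Bool.and_eq_true, Nat.blt_eq, Nat.beq_eq] at hb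
  rcases Nat.lt_or_ge g 2 with hg2 | hg2
  · interval_cases g
    · exact ⟨_, (show genI 0 = qA (gA 0) by tauto) ▸ (lift_k F (show gA 0 < 48 by tauto)).2.2⟩
    · exact ⟨_, (show genI 1 = qA (gA 1) by tauto) ▸ (lift_k F (show gA 1 < 48 by tauto)).2.2⟩
  obtain ⟨s, rfl⟩ : ∃ s, g = 2 + s := ⟨g - 2, by omega⟩
  have hs : s < 2 := by omega
  obtain ⟨n, hnt, hn⟩ := exists_normal F hm hs
  choose ρ hρ64 hρ using hn
  let K := ρ 1 (by norm_num) + 64 * ρ 2 (by norm_num) + 4096 * ρ 4 (by norm_num) + 262144 * ρ 8 (by norm_num) +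
    16777216 * ρ 16 (by norm_num) + 1073741824 * ρ 32 (by norm_num)
  have b1 := hρ64 1 (by norm_num)
  have b2 := hρ64 2 (by norm_num)
  have b3 := hρ64 4 (by norm_num)
  have b4 := hρ64 8 (by norm_num)
  have b5 := hρ64 16 (by norm_num)
  have b6 := hρ64 32 (by norm_num)
  have hunit : ∀ k (hk : k < 6), pk K 6 k = ρ (2 ^ k) (Nat.pow_lt_pow_right (by norm_num) hk) := by
    intro k hk
    rw [pk_six, Nat.shiftRight_eq_div_pow]
    interval_cases k <;> (simp only [K]; norm_num; omega)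
  have happ : ∀ v < 64, n * elt F v * n⁻¹ = elt F (aplK K v) := by
    refine lin_ext ?_ ?_ ?_
    · rw [aplK_zero, elt_zero, mul_one, mul_inv_cancel]
    · intro k hk
      rw [aplK_unit K hk, hunit k hk]
      exact hρ _ _
    · intro v hv w hw e1 e2
      rw [← elt_mul F hv hw, ← conj_mul, e1, e2, elt_mul F (aplK_lt _ _) (aplK_lt _ _), aplK_xor]
  have hK : ∀ p < 64, p ≠ 0 → aplK K p ≠ 0 ∧ smem p = smem (aplK K p) := by
    intro p hp h0
    have hne : aplK K p ≠ 0 := fun e => by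
      have := happ p hp
      rw [e, elt_zero, conj_eq_one_iff] at this
      exact h0 (elt_inj F hp (by norm_num) (this.trans (elt_zero F).symm))
    refine ⟨hne, ?_⟩
    rw [← ((e_facts hp).2.1 h0).2, ← ((e_facts (aplK_lt _ _)).2.1 hne).2]
    exact cmem_conj F hm (elt_inC hp) (elt_inC (aplK_lt _ _)) (happ p hp)
  have hside := side_ok
  simp only [List.all_eq_true, List.mem_range, Bool.and_eq_true] at hside
  obtain ⟨⟨-, hcos⟩, hsrch⟩ := hside s hs
  have hK6 : K < 64 ^ 6 := by simp only [K]; norm_num; omega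
  have hone : K % 64 = 1 ^^^ w0 s := by
    have e := happ 1 (by norm_num)
    rw [elt_one F] at e
    rw [hnt] at e
    rw [show (1 : ℕ) = 2 ^ 0 from rfl, aplK_unit K (by norm_num)] at e
    refine elt_inj F (Nat.mod_lt _ (by norm_num)) (w0_facts hs).2.1 ?_
    rw [← elt_mul F (by norm_num) (w0_facts hs).1, elt_one, e]
    rfl
  obtain ⟨j, hj, hjK⟩ := srch_sound hK hK6 5 le_rfl (by rw [show 6 - 5 = 1 from rfl, pow_one, hone]; exact hsrch)
  have hc := allB_spec hcos j hj
  simp only [cosOK, Bool.and_eq_true, Nat.blt_eq, Nat.beq_eq] at hc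
  obtain ⟨⟨hi, ha⟩, hprod⟩ := hc
  have hL : Lift F (cosI s j) n := fun v hv => by rw [app, hjK]; exact happ v hv
  exact ⟨_, hL.mul F hi (lift_k F ha).1 (isProd_of_code (genI_lt (by omega)) hprod) (lift_k F ha).2.2⟩

theorem exists_lift (hm : mask F = 123) : ∀ i < 2160, ∃ n : G, Lift F i n := by
  refine stab_induction ⟨1, lift_one F⟩ ?_
  intro g hg i hi ⟨m, hm'⟩
  obtain ⟨n, hn⟩ := exists_gen_lift F hm hg
  exact ⟨_, hn.mul F (genI_lt hg) hi (step_facts hg hi) hm'⟩

end Cfsg.Agent.HeUniq.Local
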