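import Cfsg.Agent.Lib.HeUniq.Local.SideDefs

/-! The checks for the two moving elements, evaluated. -/

set_option autoImplicit false
set_option maxRecDepth 100000
set_option maxHeartbeats 1000000
set_option Elab.async false

namespace Cfsg.Agent.HeUniq.Local

open Cfsg.Agent.HeUniq.Model

theorem h_ok : (List.range 2).all (fun s => allB (hOK s) 204 && allB (complH s) 575) = true := by decide +kernel

theorem colour_ok : (List.range 2).all (fun s => allB (colourOK s) 204) = true := by decide +kernel

theorem row_ok : (List.range 2).all (fun s => allB (rowOK s) (nP s) && allB (csOK s) (nCs s)) = true := by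
  decide +kernel

theorem pair_ok : (List.range 2).all (fun s => allB (pairP s) (nP s * nP s)) = true := by decide +kernel

theorem side_ok : (List.range 2).all (fun s => baseOK s && allB (cosOK s) 48 &&
    srchK s 5 (Nat.xor 1 (w0 s))) = true := by decide +kernel

end Cfsg.Agent.HeUniq.Local
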