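import Cfsg.Agent.Lib.HeUniq.Local.Affine
import Cfsg.Agent.Lib.HeUniq.Local.SideChk3
import Cfsg.Agent.Lib.HeUniq.Fus.Pattern
import Cfsg.Agent.Lib.HeUniq.Excl.Column

/-! Two elements normalising the elementary group that move the central involution. -/

set_option autoImplicit false
set_option maxRecDepth 20000

namespace Cfsg.Agent.HeUniq.Local

open Cfsg.Agent.HeUniq.Model Cfsg.Agent.HeUniq.Fus

variable {G : Type*} [Group G] {t : G} (F : Frame G t)

/-- an element of the elementary group in `G` -/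
def elt (v : ℕ) : G := F.f (eA v)

theorem e_facts {v : ℕ} (hv : v < 64) : InC (eA v) ∧ (v ≠ 0 → eA v ≠ oneC ∧ cmem (eA v) = smem v) ∧
    ∀ w < 64, mC (eA v) (eA w) = eA (v ^^^ w) := by
  have h := allB_spec e_ok v hv
  simp only [eOK, Bool.and_eq_true, Bool.or_eq_true, Bool.not_eq_true', Nat.blt_eq, Nat.beq_eq] at h
  obtain ⟨⟨⟨h1, h2⟩, h3⟩, h4⟩ := h
  exact ⟨inC_cd h1, fun h0 => ⟨fun e => by simp [e, h0] at h2, h4.resolve_left h0⟩,
    fun w hw => Nat.eq_of_beq_eq_true (allB_spec h3 w hw)⟩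

theorem elt_inC {v : ℕ} (hv : v < 64) : InC (eA v) := (e_facts hv).1

theorem elt_mul {v w : ℕ} (hv : v < 64) (hw : w < 64) : elt F v * elt F w = elt F (v ^^^ w) := by
  rw [elt, elt, ← F.mul (elt_inC hv) (elt_inC hw), (e_facts hv).2.2 w hw]; rfl

theorem eA_zero : eA 0 = oneC ∧ eA 1 = zC := by
  have h := base_ok
  simp only [baseAllOK, Bool.and_eq_true, Nat.beq_eq] at h
  tauto

theorem elt_zero : elt F 0 = 1 := by rw [elt, eA_zero.1, F.one]

theorem elt_one : elt F 1 = t := by rw [elt, eA_zero.2, F.fz]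

theorem commC_iff {a b : ℕ} (ha : InC a) (hb : InC b) :
    commC a b = true ↔ F.f a * F.f b = F.f b * F.f a := by
  rw [commC, Nat.beq_eq, ← F.mul ha hb, ← F.mul hb ha]
  exact ⟨congrArg F.f, F.inj (ha.mul hb) (hb.mul ha)⟩

theorem cmem_conj (hm : mask F = 123) {a b : ℕ} (ha : InC a) (hb : InC b) {g : G}
    (h : g * F.f a * g⁻¹ = F.f b) : cmem a = cmem b := by
  have := memG_conj (t := t) g (F.f a)
  rwa [h, memG_code F ha, memG_code F hb, hm, eq_comm] at this

theorem exists_move (hm : mask F = 123) {u k : ℕ} (hu : InC u) (hk : k = 4 ∨ k = 6) (hcu : cls u = k)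
    (hcuz : cls (mC zC u) = k) : ∃ h : G, h * F.f u * h⁻¹ = F.f u ∧ h * t * h⁻¹ = t * F.f u := by
  have hk8 : k < 8 := by omega
  have hkm : (mask F).testBit k = true := by rw [hm]; rcases hk with rfl | rfl <;> rfl
  have hcu' : cls u < 8 := by omega
  obtain ⟨c0, hc0t, hc0⟩ := to_rep F hcu'
  rw [hcu] at hc0
  obtain ⟨d, hd, hd5, hdm, g, hg6, hgt⟩ := swap F (k := k) hk8 (by omega) hkm
  have hG : (g * c0) * F.f u * (g * c0)⁻¹ = t := by
    rw [mul_inv_rev, show g * c0 * F.f u * (c0⁻¹ * g⁻¹) = g * (c0 * F.f u * c0⁻¹) * g⁻¹ by group, hc0, hg6]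
  have hGt : (g * c0) * t * (g * c0)⁻¹ = F.f (repC d) := by
    rw [mul_inv_rev, show g * c0 * t * (c0⁻¹ * g⁻¹) = g * (c0 * t) * c0⁻¹ * g⁻¹ by group, hc0t,
      show g * (t * c0) * c0⁻¹ * g⁻¹ = g * t * g⁻¹ by group, hgt]
  generalize g * c0 = p at hG hGt
  have hdrep := (rep_cd hd).1
  have hutX : IsConj t (F.f (repC d) * t) := by
    have hx : IsConj t (t * F.f u) := by
      have h' := conj_iff F (show cls (mC zC u) < 8 by rw [hcuz]; exact hk8)
      rw [F.mul inC_z hu, F.fz, hcuz] at h'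
      exact h'.2 hkm
    refine hx.trans (isConj_iff.2 ⟨p, ?_⟩)
    rw [← conj_mul, hG, hGt]
  have hsame : cls (mC (repC d) zC) = d := by
    have hmm : ∀ j < 8, (123 : ℕ).testBit j = true → j ≠ 5 → j = 0 ∨ j ∈ ([1, 3, 4, 6] : List ℕ) := by decide
    rw [hm] at hdm
    rcases hmm d hd hdm hd5 with rfl | h
    · exfalso
      have hc : cls (mC (repC 0) zC) < 8 := by rw [Excl.rep0_z_cls]; norm_num
      have h' := conj_iff F hc
      rw [F.mul hdrep inC_z, F.fz, Excl.rep0_z_cls, hm] at h'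
      exact Bool.noConfusion (h'.1 hutX)
    · exact Excl.rep_z_cls d hd h
  obtain ⟨c1, hc1t, hc1⟩ := to_rep F (show cls (mC (repC d) zC) < 8 by rw [hsame]; exact hd)
  rw [hsame, F.mul hdrep inC_z, F.fz] at hc1
  have hc1i : c1⁻¹ * t * c1 = t := by rw [mul_assoc, ← hc1t, inv_mul_cancel_left]
  have e1 : p⁻¹ * t * p = F.f u := (congrArg (fun y => p⁻¹ * y * p) hG.symm).trans (by group)
  have e2 : c1⁻¹ * F.f (repC d) * c1 = F.f (repC d) * t :=
    (congrArg (fun y => c1⁻¹ * y * c1) hc1.symm).trans (by group)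
  refine ⟨p⁻¹ * c1⁻¹ * p, ?_, ?_⟩
  · calc p⁻¹ * c1⁻¹ * p * F.f u * (p⁻¹ * c1⁻¹ * p)⁻¹ = p⁻¹ * (c1⁻¹ * (p * F.f u * p⁻¹) * c1) * p := by group
      _ = F.f u := by rw [hG, hc1i, e1]
  · calc p⁻¹ * c1⁻¹ * p * t * (p⁻¹ * c1⁻¹ * p)⁻¹ = p⁻¹ * (c1⁻¹ * (p * t * p⁻¹) * c1) * p := by group
      _ = p⁻¹ * ((p * t * p⁻¹) * (p * F.f u * p⁻¹)) * p := by rw [hGt, e2, hG]
      _ = t * F.f u := by group

theorem w0_facts {s : ℕ} (hs : s < 2) : w0 s < 64 ∧ 1 ^^^ w0 s < 64 ∧
    cls (eA (w0 s)) = (bif Nat.beq s 0 then 4 else 6) ∧ cls (mC zC (eA (w0 s))) = (bif Nat.beq s 0 then 4 else 6) := by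
  have key : ∀ s : Fin 2, w0 s < 64 ∧ 1 ^^^ w0 s < 64 ∧
      cls (eA (w0 s)) = (bif Nat.beq s 0 then 4 else 6) ∧
      cls (mC zC (eA (w0 s))) = (bif Nat.beq s 0 then 4 else 6) := by decide +kernel
  exact key ⟨s, hs⟩

theorem hA_facts {s i : ℕ} (hs : s < 2) (hi : i < 204) : InC (hA s i) ∧
    F.f (hA s i) * F.f (eA (w0 s)) = F.f (eA (w0 s)) * F.f (hA s i) ∧ F.f (hA s i) * F.f (hA s i) = 1 ∧
    hA s i ∉ fourS s ∧ hP s (pos (hA s i)) = i := by
  have h := h_ok
  simp only [List.all_eq_true, List.mem_range, Bool.and_eq_true] at h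
  have h := allB_spec (h s hs).1 i hi
  simp only [hOK, Bool.and_eq_true, Bool.not_eq_true', List.any_eq_false, Nat.blt_eq, Nat.beq_eq] at h
  obtain ⟨⟨⟨⟨h1, h2⟩, h3⟩, h4⟩, h5⟩ := h
  refine ⟨inC_cd h1, (commC_iff F (inC_cd h1) (elt_inC (w0_facts hs).1)).1 h2, ?_, fun hm => h5 _ hm rfl, h4⟩
  have hC : InC (hA s i) := inC_cd h1
  rw [← F.mul hC hC, h3, F.one]

theorem four_inC {s w : ℕ} (hs : s < 2) (hw : w ∈ fourS s) : InC w := by
  simp only [fourS, List.mem_cons, List.not_mem_nil, or_false] at hw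
  rcases hw with rfl | rfl | rfl | rfl
  exacts [inC_one, inC_z, elt_inC (w0_facts hs).1, elt_inC (w0_facts hs).2.1]

theorem four_move {s : ℕ} (hs : s < 2) {h : G} (hu : h * elt F (w0 s) * h⁻¹ = elt F (w0 s))
    (ht : h * t * h⁻¹ = t * elt F (w0 s)) {w : ℕ} (hw : w ∈ fourS s) :
    ∃ w' ∈ fourS s, h * F.f w' * h⁻¹ = F.f w := by
  have hw64 := (w0_facts hs).1
  have h1w : elt F (1 ^^^ w0 s) = t * elt F (w0 s) := by rw [← elt_mul F (by norm_num) hw64, elt_one]
  simp only [fourS, List.mem_cons, List.not_mem_nil, or_false] at hw ⊢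
  rcases hw with rfl | rfl | rfl | rfl
  · exact ⟨_, Or.inl rfl, by rw [F.one, mul_one, mul_inv_cancel]⟩
  · refine ⟨_, Or.inr (Or.inr (Or.inr rfl)), ?_⟩
    show h * elt F (1 ^^^ w0 s) * h⁻¹ = F.f zC
    rw [h1w, ← conj_mul, ht, hu, mul_assoc, elt_mul F hw64 hw64, Nat.xor_self, elt_zero, mul_one, F.fz]
  · exact ⟨_, Or.inr (Or.inr (Or.inl rfl)), hu⟩
  · refine ⟨_, Or.inr (Or.inl rfl), ?_⟩
    show h * F.f zC * h⁻¹ = elt F (1 ^^^ w0 s)
    rw [F.fz, h1w, ht]

attribute [local irreducible] hA hP pos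

theorem cnt_fin (g : ℕ → Bool) : cnt g 204 = Fintype.card {i : Fin 204 // g i = true} := by
  rw [cnt_eq_card, Fintype.card_subtype]
  refine (Finset.card_bij (s := Finset.univ.filter fun i : Fin 204 => g i = true) (fun i _ => (i : ℕ))
    (fun i hi => ?_) (fun _ _ _ _ e => Fin.ext e) fun b hb => ?_).symm
  · simp only [Finset.mem_filter, Finset.mem_univ, true_and] at hi
    simp [i.2, hi]
  · simp only [Finset.mem_filter, Finset.mem_range] at hb
    exact ⟨⟨b, hb.1⟩, by simp [hb.2], rfl⟩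

theorem exists_perm {s : ℕ} (hs : s < 2) {h : G} (hu : h * elt F (w0 s) * h⁻¹ = elt F (w0 s))
    (ht : h * t * h⁻¹ = t * elt F (w0 s)) :
    ∃ φ : Fin 204 ≃ Fin 204, ∀ i, F.f (hA s (φ i)) = h * F.f (hA s i) * h⁻¹ := by
  have hw64 := (w0_facts hs).1
  have hback : h * (t * elt F (w0 s)) * h⁻¹ = t := by
    rw [← conj_mul, ht, hu, mul_assoc, elt_mul F hw64 hw64, Nat.xor_self, elt_zero, mul_one]
  have hex : ∀ i : Fin 204, ∃ j : Fin 204, F.f (hA s j) = h * F.f (hA s i) * h⁻¹ := by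
    intro i
    obtain ⟨hC, hcu, hsq, hout, -⟩ := hA_facts F hs i.2
    have hct : h * F.f (hA s i) * h⁻¹ * t = t * (h * F.f (hA s i) * h⁻¹) := by
      conv_lhs => arg 2; rw [← hback]
      conv_rhs => arg 1; rw [← hback]
      rw [conj_mul, conj_mul]
      refine congrArg (fun y => h * y * h⁻¹) ?_
      show _ * (t * F.f (eA (w0 s))) = _
      rw [← mul_assoc, F.cent hC, mul_assoc, hcu, ← mul_assoc]
      rfl
    obtain ⟨c, hc, hcv⟩ := F.surj _ hct
    have hne : ∀ w ∈ fourS s, c ≠ w := by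
      rintro w hw rfl
      obtain ⟨w', hw', e⟩ := four_move F hs hu ht hw
      rw [hcv] at e
      exact hout (F.inj hC (four_inC hs hw') (mul_left_cancel (mul_right_cancel e)).symm ▸ hw')
    have hcls : cls c < 8 := by
      refine cls_lt hc (F.inj (hc.mul hc) inC_one ?_) (hne _ List.mem_cons_self)
      rw [F.mul hc hc, hcv, conj_mul, hsq, mul_one, mul_inv_cancel, F.one]
    have hp : pos c < 575 := rep_cd.pos_lt _
    have hcode : ivCode (pos c) = c := by
      have := hcls; unfold cls at this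
      cases hq : Nat.beq (ivCode (pos c)) c
      · rw [hq] at this; simp at this
      · exact Nat.eq_of_beq_eq_true hq
    have hk := h_ok
    simp only [List.all_eq_true, List.mem_range, Bool.and_eq_true] at hk
    have hk := allB_spec (hk s hs).2 _ hp
    simp only [complH, Bool.or_eq_true, Bool.not_eq_true', List.any_eq_true, Bool.and_eq_true, Nat.blt_eq,
      Nat.beq_eq, hcode] at hk
    rcases hk with (hk | ⟨w, hw, e⟩) | ⟨h1, h2⟩
    · exfalso
      have : commC c (eA (w0 s)) = true := by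
        refine (commC_iff F hc (elt_inC hw64)).2 ?_
        show F.f c * elt F (w0 s) = elt F (w0 s) * F.f c
        rw [hcv]
        conv_lhs => arg 2; rw [← hu]
        conv_rhs => arg 1; rw [← hu]
        rw [conj_mul, conj_mul]
        exact congrArg (fun y => h * y * h⁻¹) hcu
      rw [hk] at this
      exact Bool.noConfusion this
    · exact absurd e.symm (hne w hw)
    · refine ⟨⟨hP s (pos c), h1⟩, ?_⟩
      show F.f (hA s (hP s (pos c))) = _
      rw [h2, hcv]
  choose φ hφ using hex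
  refine ⟨Equiv.ofBijective φ (Finite.injective_iff_bijective.1 fun i j e => ?_), hφ⟩
  have h1 := hφ i
  rw [e, hφ j] at h1
  have h2 : hA s j = hA s i :=
    F.inj (hA_facts F hs j.2).1 (hA_facts F hs i.2).1 (mul_left_cancel (mul_right_cancel h1))
  exact Fin.ext (by rw [← (hA_facts F hs i.2).2.2.2.2, ← h2, (hA_facts F hs j.2).2.2.2.2])

set_option maxHeartbeats 1000000 in
theorem exists_normal (hm : mask F = 123) {s : ℕ} (hs : s < 2) :
    ∃ n : G, n * t * n⁻¹ = t * elt F (w0 s) ∧ ∀ v < 64, ∃ v' < 64, n * elt F v * n⁻¹ = elt F v' := by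
  obtain ⟨hw64, hw164, hc1, hc2⟩ := w0_facts hs
  obtain ⟨h, hu, ht⟩ : ∃ h : G, h * elt F (w0 s) * h⁻¹ = elt F (w0 s) ∧ h * t * h⁻¹ = t * elt F (w0 s) :=
    exists_move F hm (elt_inC hw64) (k := bif Nat.beq s 0 then 4 else 6)
    (by cases Nat.beq s 0 <;> simp) hc1 hc2
  obtain ⟨φ, hφ⟩ := exists_perm F hs hu ht
  have hC : ∀ i : Fin 204, InC (hA s i) := fun i => (hA_facts F hs i.2).1
  have hcomm : ∀ i j : Fin 204, commC (hA s (φ i)) (hA s (φ j)) = commC (hA s i) (hA s j) := by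
    intro i j
    rw [Bool.eq_iff_iff, commC_iff F (hC _) (hC _), commC_iff F (hC _) (hC _), hφ, hφ, conj_mul, conj_mul,
      mul_left_inj, mul_right_inj]
  have hcount : ∀ g g' : ℕ → Bool, (∀ j : Fin 204, g' (φ j) = g j) → cnt g' 204 = cnt g 204 := by
    intro g g' hg
    rw [cnt_fin, cnt_fin]
    refine (Fintype.card_congr (φ.subtypeEquiv fun j => ?_)).symm
    rw [hg]
  have hpure : ∀ i : Fin 204, pureH s i = true → pureH s (φ i) = true := by
    intro i hp
    simp only [pureH, List.all_eq_true, Nat.beq_eq] at hp ⊢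
    intro w hw
    obtain ⟨w', hw', e⟩ := four_move F hs hu ht hw
    refine (cmem_conj F hm (g := h) ((hC i).mul (four_inC hs hw')) ((hC _).mul (four_inC hs hw)) ?_).symm.trans (hp w' hw')
    rw [F.mul (hC i) (four_inC hs hw'), F.mul (hC _) (four_inC hs hw), ← conj_mul, e, hφ]
  have hb := side_ok
  simp only [List.all_eq_true, List.mem_range, Bool.and_eq_true] at hb
  have hb := (hb s hs).1.1
  simp only [baseOK, Bool.and_eq_true, Bool.or_eq_true, Nat.blt_eq, Nat.beq_eq, List.all_eq_true, List.mem_range,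
    List.any_eq_true] at hb
  obtain ⟨⟨⟨⟨⟨⟨⟨⟨hp0, hq0⟩, hpq⟩, hpp⟩, hqp⟩, hpc⟩, hqc⟩, hboth⟩, hunit⟩ := hb
  have hr := row_ok
  simp only [List.all_eq_true, List.mem_range, Bool.and_eq_true] at hr
  have hrow : ∀ p < nP s, pP s p < 204 ∧ ∀ j < 204, (rowP s p).testBit j = commC (hA s (pP s p)) (hA s j) := by
    intro p hp
    have h := allB_spec (hr s hs).1 p hp
    simp only [rowOK, Bool.and_eq_true, Nat.blt_eq] at h
    exact ⟨h.1, fun j hj => by simpa using allB_spec h.2 j hj⟩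
  have himage : ∀ p < nP s, pureH s (pP s p) = true →
      cnt (fun j => commC (hA s (pP s p)) (hA s j)) 204 = kP s →
      ∃ p' < nP s, ∀ j : Fin 204, (rowP s p').testBit (φ j) = (rowP s p).testBit j ∧
        ∀ q : Fin 204, (q : ℕ) = pP s p → (φ q : ℕ) = pP s p' := by
    intro p hp hpure' hcnt
    obtain ⟨h1, h2⟩ := hrow p hp
    let i : Fin 204 := ⟨_, h1⟩
    have hk := colour_ok
    simp only [List.all_eq_true, List.mem_range] at hk
    have hk := allB_spec (hk s hs) _ (φ i).2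
    simp only [colourOK, Bool.or_eq_true, Bool.not_eq_true', List.any_eq_true, List.mem_range, Nat.beq_eq,
      hpure i hpure'] at hk
    rcases hk with (hk | ⟨p', hp', hpp'⟩) | hk
    · exact Bool.noConfusion hk
    · refine ⟨p', hp', fun j => ⟨?_, fun q hq => ?_⟩⟩
      · rw [(hrow p' hp').2 _ (φ j).2, h2 _ j.2, hpp']
        exact hcomm i j
      · rw [hpp', show q = i from Fin.ext hq]
    · exfalso
      rw [hcount (fun j => commC (hA s i) (hA s j)) (fun j => commC (hA s (φ i)) (hA s j)) fun j => hcomm i j,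
        hcnt, Nat.beq_refl] at hk
      exact Bool.noConfusion hk
  obtain ⟨p', hp', hP'⟩ := himage _ hp0 hpp hpc
  obtain ⟨q', hq', hQ'⟩ := himage _ hq0 hqp hqc
  have hk := pair_ok
  simp only [List.all_eq_true, List.mem_range] at hk
  have hn0 : 0 < nP s := by omega
  have hk := allB_spec (hk s hs) (p' * nP s + q') (calc p' * nP s + q' < p' * nP s + nP s := by omega
    _ = (p' + 1) * nP s := by ring
    _ ≤ nP s * nP s := Nat.mul_le_mul_right _ hp')
  have hd1 : (p' * nP s + q') / nP s = p' := by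
    rw [Nat.mul_comm, Nat.mul_add_div hn0, Nat.div_eq_of_lt hq', Nat.add_zero]
  have hd2 : (p' * nP s + q') % nP s = q' := by
    rw [Nat.mul_comm, Nat.mul_add_mod, Nat.mod_eq_of_lt hq']
  simp only [pairP, hd1, hd2, Bool.or_eq_true, Bool.not_eq_true', List.any_eq_true, List.mem_range,
    Nat.beq_eq] at hk
  have hqq : (rowP s p').testBit (pP s q') = true := by
    let j : Fin 204 := ⟨_, (hrow _ hq0).1⟩
    rw [← (hQ' j).2 j rfl, (hP' j).1]
    exact hpq
  rcases hk with (hk | hk) | ⟨c, hc, hsub⟩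
  · rw [hqq] at hk; exact Bool.noConfusion hk
  · exfalso
    rw [hcount (fun j => (rowP s (p0 s)).testBit j && (rowP s (q0 s)).testBit j)
      (fun j => (rowP s p').testBit j && (rowP s q').testBit j) fun j => by rw [(hP' j).1, (hQ' j).1],
      hboth, Nat.beq_refl] at hk
    exact Bool.noConfusion hk
  have hcs := allB_spec (hr s hs).2 c hc
  simp only [csOK, Bool.and_eq_true, Nat.blt_eq] at hcs
  obtain ⟨⟨hci, hcu⟩, hcm⟩ := hcs
  have hcC : InC (csA s c) := inC_cd hci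
  have hcu' : F.f (csA s c) * elt F (w0 s) = elt F (w0 s) * F.f (csA s c) :=
    (commC_iff F hcC (elt_inC hw64)).1 hcu
  have hct : F.f (csA s c) * t = t * F.f (csA s c) := F.cent hcC
  have hconj : ∀ {x y : G}, x * y = y * x → x * y * x⁻¹ = y := fun {x y} e => by
    rw [e, mul_inv_cancel_right]
  refine ⟨F.f (csA s c) * h, ?_, ?_⟩
  · rw [show F.f (csA s c) * h * t * (F.f (csA s c) * h)⁻¹ =
      F.f (csA s c) * (h * t * h⁻¹) * (F.f (csA s c))⁻¹ by group, ht, ← conj_mul, hconj hct, hconj hcu']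
  refine lin_ext ⟨0, by norm_num, by rw [elt_zero, mul_one, mul_inv_cancel]⟩ ?_ ?_
  · intro k hk6
    rw [show F.f (csA s c) * h * elt F (2 ^ k) * (F.f (csA s c) * h)⁻¹ =
      F.f (csA s c) * (h * elt F (2 ^ k) * h⁻¹) * (F.f (csA s c))⁻¹ by group]
    rcases hunit k hk6 with ⟨w, hw, e⟩ | ⟨⟨⟨hu1, hu2⟩, hu3⟩, hu4⟩
    · have he : ∃ v < 64, h * elt F (2 ^ k) * h⁻¹ = elt F v ∧ F.f (csA s c) * elt F v = elt F v * F.f (csA s c) := by
        show ∃ v < 64, h * F.f (eA (2 ^ k)) * h⁻¹ = _ ∧ _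
        rw [← e]
        simp only [fourS, List.mem_cons, List.not_mem_nil, or_false] at hw
        rcases hw with rfl | rfl | rfl | rfl
        · exact ⟨0, by norm_num, by rw [F.one, mul_one, mul_inv_cancel, elt_zero], by rw [elt_zero]; simp⟩
        · refine ⟨1 ^^^ w0 s, hw164, by rw [F.fz, ht, ← elt_mul F (by norm_num) hw64, elt_one], ?_⟩
          rw [← elt_mul F (by norm_num) hw64, elt_one, ← mul_assoc, hct, mul_assoc, hcu', mul_assoc]
        · exact ⟨_, hw64, hu, hcu'⟩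
        · refine ⟨1, by norm_num, ?_, by rw [elt_one]; exact hct⟩
          show h * elt F (1 ^^^ w0 s) * h⁻¹ = _
          rw [← elt_mul F (by norm_num) hw64, elt_one, ← conj_mul, ht, hu, mul_assoc, elt_mul F hw64 hw64,
            Nat.xor_self, elt_zero, mul_one]
      obtain ⟨v, hv, e1, e2⟩ := he
      exact ⟨v, hv, by rw [e1, hconj e2]⟩
    · let j : Fin 204 := ⟨_, hu1⟩
      have hbit : (cmA s c).testBit (φ j) = true := by
        have : ((rowP s p').testBit (φ j) && (rowP s q').testBit (φ j) && (cmA s c).testBit (φ j)) =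
            ((rowP s p').testBit (φ j) && (rowP s q').testBit (φ j)) := by
          rw [← Nat.testBit_and, ← Nat.testBit_and]
          exact congrArg (·.testBit (φ j : ℕ)) hsub
        rw [(hP' j).1, (hQ' j).1] at this
        rw [show (rowP s (p0 s)).testBit j = true from hu3, show (rowP s (q0 s)).testBit j = true from hu4] at this
        simpa using this
      have hv := allB_spec hcm _ (φ j).2
      simp only [hbit, Bool.not_true, Bool.false_or, List.any_eq_true, List.mem_range, Nat.beq_eq] at hv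
      obtain ⟨v, hv, e⟩ := hv
      refine ⟨v, hv, ?_⟩
      have e' : F.f (csA s c) * F.f (hA s (φ j)) = elt F v * F.f (csA s c) := by
        rw [elt, ← F.mul hcC (hC _), e, F.mul (elt_inC hv) hcC]
      rw [elt, ← hu2, ← show F.f (hA s (φ j)) = h * F.f (hA s (unitA s k)) * h⁻¹ from hφ j, e',
        mul_inv_cancel_right]
  · intro v hv w hw ⟨v', hv', e1⟩ ⟨w', hw', e2⟩
    exact ⟨v' ^^^ w', Nat.xor_lt_two_pow (n := 6) hv' hw', by
      rw [← elt_mul F hv hw, ← conj_mul, e1, e2, elt_mul F hv' hw']⟩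

end Cfsg.Agent.HeUniq.Local
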