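import Cfsg.Agent.Lib.HeUniq.Local.SideDefs

/-! The checks on the linear group and on the small group, evaluated. -/

set_option autoImplicit false
set_option maxRecDepth 100000
set_option maxHeartbeats 1000000
set_option Elab.async false

namespace Cfsg.Agent.HeUniq.Local

open Cfsg.Agent.HeUniq.Model

theorem base_ok : baseAllOK = true := by decide +kernel

theorem e_ok : allB eOK 64 = true := by decide +kernel

theorem k_ok : allB kOK 48 = true := by decide +kernel

theorem nx_ok : allB (fun o => nxOK (o / 48) (o % 48)) 96 = true := by decide +kernel

theorem treeA_ok : allB treeAOK 48 = true := by decide +kernel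

theorem tree_ok : allB treeOK 2160 = true := by decide +kernel

theorem inc_ok : allB incOK 2159 = true := by decide +kernel

theorem lin_ok : allB linOK 2160 = true := by decide +kernel

theorem step_ok : allB (fun o => stepOK (o / 2160) (o % 2160)) 8640 = true := by decide +kernel

end Cfsg.Agent.HeUniq.Local
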