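import Cfsg.Agent.Lib.HeUniq.Local.Amalgam
import Cfsg.Agent.Lib.HeUniq.Local.SideData
import Cfsg.Agent.Lib.HeUniq.Excl.Defs

/-! Checks behind the construction of one side of the amalgam. -/

set_option autoImplicit false
set_option maxRecDepth 100000

namespace Cfsg.Agent.HeUniq.Local

open Cfsg.Agent.HeUniq.Model Cfsg.Agent.HeUniq.Fus

/-- an entry of a packed table -/
def pk (P w i : ℕ) : ℕ := Nat.mod (Nat.shiftRight P (Nat.mul w i)) (Nat.pow 2 w)

/-- a column term -/
def selK (K v k : ℕ) : ℕ :=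
  Nat.mul (Nat.land (Nat.shiftRight v k) 1) (Nat.land (Nat.shiftRight K (Nat.mul 6 k)) 63)

/-- a packed linear map on a vector -/
def aplK (K v : ℕ) : ℕ :=
  Nat.xor (Nat.xor (Nat.xor (Nat.xor (Nat.xor (selK K v 0) (selK K v 1)) (selK K v 2)) (selK K v 3)) (selK K v 4))
    (selK K v 5)

/-- the columns of the `i`-th linear part -/
def keyAt (i : ℕ) : ℕ := pk (keyPack (i / 216)) 36 (i % 216)

/-- the columns, the first one highest -/
def revKey (K : ℕ) : ℕ :=
  pk K 6 0 * 1073741824 + pk K 6 1 * 16777216 + pk K 6 2 * 262144 + pk K 6 3 * 4096 + pk K 6 4 * 64 + pk K 6 5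

/-- the action of the `i`-th linear part -/
def app (i v : ℕ) : ℕ := aplK (keyAt i) v

/-- an element of the elementary group -/
def eA (v : ℕ) : ℕ := cd (pk eTab 15 v)

/-- the `a`-th map fixing the first vector -/
def qA (a : ℕ) : ℕ := pk qTab 12 a

/-- its lift in the centraliser -/
def kA1 (a : ℕ) : ℕ := cd (pk kTab 15 a)

/-- a generating map -/
def genI (g : ℕ) : ℕ := pk genTab 12 g

/-- product with a generator -/
def stepI (g i : ℕ) : ℕ := pk (stepPack ((2160 * g + i) / 432)) 12 ((2160 * g + i) % 432)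

/-- the generator, the rest and the length of a linear part -/
def parI (i : ℕ) : ℕ := pk (parPack (i / 216)) 22 (i % 216)

/-- product with one of the two first generators -/
def nxA (g b : ℕ) : ℕ := pk nxTab 6 (48 * g + b)

/-- the place of a first generator -/
def gA (g : ℕ) : ℕ := nxA g e48

/-- the decomposition of a pair -/
def jAt (j : ℕ) : ℕ := pk (jPack (j / 256)) 12 (j % 256)

/-- the membership of the class, for an element of the elementary group -/
def smem (v : ℕ) : ℕ := Nat.land (Nat.shiftRight sSet v) 1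

/-- the membership of the class, for a code -/
def cmem (a : ℕ) : ℕ := memV 123 (cls a)

/-- the checks on a linear part -/
def linOK (i : ℕ) : Bool :=
  Nat.blt (stabAt i) (2 ^ 49) && Nat.beq (Nat.shiftRight (stabAt i) 42) 64 && Nat.blt (keyAt i) (2 ^ 36) &&
    Nat.beq (Nat.land (stabAt i) (transl 63)) 0 && (List.range 6).all fun k =>
      Nat.beq (mM (stabAt i) (transl (2 ^ k))) (transl (pk (keyAt i) 6 k))

/-- the linear parts are increasing -/
def incOK (i : ℕ) : Bool := Nat.blt (revKey (keyAt i)) (revKey (keyAt (i + 1)))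

/-- the table of products with a generator -/
def stepOK (g i : ℕ) : Bool :=
  Nat.blt (stepI g i) 2160 && Nat.beq (mM (stabAt (genI g)) (stabAt i)) (stabAt (stepI g i))

/-- the tree reaches the `i`-th linear part -/
def treeOK (i : ℕ) : Bool :=
  Nat.beq i idI || (Nat.blt (parI i % 4) 4 && Nat.blt (parI i / 4 % 4096) 2160 &&
    Nat.blt (parI (parI i / 4 % 4096) / 16384) (parI i / 16384) &&
    Nat.beq (stepI (parI i % 4) (parI i / 4 % 4096)) i)

/-- conjugation of the central map -/
def zetaOK (i : ℕ) : Bool :=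
  Nat.beq (mM (stabAt i) (stabAt zI1)) (mM (stabAt zI1) (stabAt i)) ||
    Nat.beq (mM (stabAt i) (stabAt zI1)) (mM (stabAt zI2) (stabAt i))

/-- the elementary group is closed -/
def eOK (v : ℕ) : Bool :=
  Nat.blt (pk eTab 15 v) 21504 && (Nat.beq v 0 || !Nat.beq (eA v) oneC) &&
    allB (fun w => Nat.beq (mC (eA v) (eA w)) (eA (Nat.xor v w))) 64 &&
    (Nat.beq v 0 || Nat.beq (cmem (eA v)) (smem v))

/-- the elementary group is its own centraliser -/
def centEOK (i : ℕ) : Bool :=
  ([32, 16, 8, 4, 2].any fun v => !Nat.beq (mC (cd i) (eA v)) (mC (eA v) (cd i))) ||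
    (List.range 64).any fun v => Nat.beq (eA v) (cd i)

/-- the lift of a map fixing the first vector -/
def kOK (a : ℕ) : Bool :=
  Nat.blt (pk kTab 15 a) 21504 && Nat.blt (qA a) 2160 &&
    (List.range 6).all fun k => Nat.beq (mC (kA1 a) (eA (2 ^ k))) (mC (eA (app (qA a) (2 ^ k))) (kA1 a))

/-- products with the first generators -/
def nxOK (g b : ℕ) : Bool :=
  Nat.blt (nxA g b) 48 && Nat.beq (mC (kA1 (gA g)) (kA1 b)) (kA1 (nxA g b)) &&
    Nat.beq (mM (stabAt (qA (gA g))) (stabAt (qA b))) (stabAt (qA (nxA g b)))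

/-- the tree on the maps fixing the first vector -/
def treeAOK (a : ℕ) : Bool :=
  Nat.blt (pk parA 10 a / 128) 7 && (Nat.beq a e48 ||
    (Nat.blt (pk parA 10 a % 2) 2 && Nat.blt (pk parA 10 a / 2 % 64) 48 &&
      Nat.blt (pk parA 10 (pk parA 10 a / 2 % 64) / 128) (pk parA 10 a / 128) &&
      Nat.beq (nxA (pk parA 10 a % 2) (pk parA 10 a / 2 % 64)) a))

/-- a cocycle from its two first values, computed along the tree -/
def dC (x y : ℕ) (n : ℕ) : ℕ → ℕ :=
  Nat.rec (fun _ => 0) (fun _ r a => bif Nat.beq a e48 then 0 else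
    Nat.xor (bif Nat.beq (pk parA 10 a % 2) 0 then x else y)
      (app (qA (gA (pk parA 10 a % 2))) (r (pk parA 10 a / 2 % 64)))) n

/-- a pair of first values is inconsistent, a coboundary, or refuted by a witness -/
def cocOK (o : ℕ) : Bool :=
  let x := o / 64
  let y := o % 64
  (cedList.any fun e => !Nat.beq (dC x y 7 (nxA e.1 e.2))
      (Nat.xor (bif Nat.beq e.1 0 then x else y) (app (qA (gA e.1)) (dC x y 7 e.2)))) ||
    ((List.range 64).any fun v => Nat.beq x (Nat.xor v (app (qA (gA 0)) v)) &&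
      Nat.beq y (Nat.xor v (app (qA (gA 1)) v))) ||
    witList.any fun e => !Nat.beq (cmem (mC (eA (Nat.xor e.2.2.2 (dC x y 7 e.1))) (kA1 e.1)))
      (cmem (mC (eA (Nat.xor (app e.2.2.1 e.2.2.2) (dC x y 7 e.2.1))) (kA1 e.2.1)))

/-- the checks on the witnesses and relations -/
def witOK : Bool :=
  (cedList.all fun e => Nat.blt e.1 2 && Nat.blt e.2 48) &&
  witList.all fun e => Nat.blt e.1 48 && Nat.blt e.2.1 48 && Nat.blt e.2.2.1 2160 && Nat.blt e.2.2.2 64 &&
    Nat.beq (mM (stabAt e.2.2.1) (stabAt (qA e.1))) (mM (stabAt (qA e.2.1)) (stabAt e.2.2.1))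

/-- a pair decomposes -/
def jOK (j : ℕ) : Bool :=
  Nat.blt (jAt j) 3072 && Nat.beq (mC (eA (jAt j % 64)) (kA1 (jAt j / 64))) (pC j) &&
    Nat.beq (md (64 * qA (jAt j / 64) + jAt j % 64)) (pM j)

/-- the moved vector of a side -/
def w0 (s : ℕ) : ℕ := bif Nat.beq s 0 then 2 else 8

/-- an involution commuting with the moved vector -/
def hA (s i : ℕ) : ℕ := cd (pk (bif Nat.beq s 0 then hTabA else hTabB) 15 i)

/-- its place -/
def hP (s j : ℕ) : ℕ := pk (bif Nat.beq s 0 then hPosA else hPosB) 8 j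

/-- a coloured one -/
def pP (s p : ℕ) : ℕ := pk (bif Nat.beq s 0 then pTabA else pTabB) 8 p

/-- how many are coloured -/
def nP (s : ℕ) : ℕ := bif Nat.beq s 0 then 24 else 36

/-- the colour -/
def kP (s : ℕ) : ℕ := bif Nat.beq s 0 then 60 else 68

/-- the commuting set of a coloured one -/
def rowP (s p : ℕ) : ℕ := pk (bif Nat.beq s 0 then rowTabA else rowTabB) 204 p

/-- the first chosen coloured one -/
def p0 (s : ℕ) : ℕ := bif Nat.beq s 0 then 0 else 12

/-- the second chosen coloured one -/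
def q0 (s : ℕ) : ℕ := bif Nat.beq s 0 then 0 else 16

/-- how many conjugators -/
def nCs (s : ℕ) : ℕ := bif Nat.beq s 0 then 1 else 3

/-- a conjugator -/
def csA (s c : ℕ) : ℕ := cd (pk (bif Nat.beq s 0 then csTabA else csTabB) 15 c)

/-- what a conjugator sends into the elementary group -/
def cmA (s c : ℕ) : ℕ := pk (bif Nat.beq s 0 then cmTabA else cmTabB) 204 c

/-- the place of a unit vector, or 255 in the four-group -/
def unitA (s k : ℕ) : ℕ := pk (bif Nat.beq s 0 then unitTabA else unitTabB) 8 k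

/-- a linear map moving the first vector -/
def cosI (s j : ℕ) : ℕ := pk (bif Nat.beq s 0 then cosTabA else cosTabB) 12 j

/-- its correction -/
def cosK (s j : ℕ) : ℕ := pk (bif Nat.beq s 0 then cosAA else cosAB) 6 j

/-- the four-group -/
def fourS (s : ℕ) : List ℕ := [oneC, zC, eA (w0 s), eA (Nat.xor 1 (w0 s))]

/-- equal codes commute -/
def commC (a b : ℕ) : Bool := Nat.beq (mC a b) (mC b a)

/-- a listed involution -/
def hOK (s i : ℕ) : Bool :=
  Nat.blt (pk (bif Nat.beq s 0 then hTabA else hTabB) 15 i) 21504 && commC (hA s i) (eA (w0 s)) &&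
    Nat.beq (mC (hA s i) (hA s i)) oneC && Nat.beq (hP s (pos (hA s i))) i && !(fourS s).any (fun w => Nat.beq w (hA s i))

/-- every involution commuting with the moved vector is listed -/
def complH (s j : ℕ) : Bool :=
  !commC (ivCode j) (eA (w0 s)) || (fourS s).any (fun w => Nat.beq w (ivCode j)) ||
    (Nat.blt (hP s j) 204 && Nat.beq (hA s (hP s j)) (ivCode j))

/-- all four translates are in the class -/
def pureH (s i : ℕ) : Bool := (fourS s).all fun w => Nat.beq (cmem (mC (hA s i) w)) 1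

/-- elements with the colour are listed -/
def colourOK (s i : ℕ) : Bool :=
  !pureH s i || ((List.range (nP s)).any fun p => Nat.beq (pP s p) i) ||
    !Nat.beq (cnt (fun j => commC (hA s i) (hA s j)) 204) (kP s)

/-- the commuting sets -/
def rowOK (s p : ℕ) : Bool :=
  Nat.blt (pP s p) 204 && allB (fun j => (rowP s p).testBit j == commC (hA s (pP s p)) (hA s j)) 204

/-- a coloured pair determines a conjugate of the elementary group -/
def pairP (s o : ℕ) : Bool :=
  let p := o / nP s
  let q := o % nP s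
  !(rowP s p).testBit (pP s q) || !Nat.beq (cnt (fun j => (rowP s p).testBit j && (rowP s q).testBit j) 204) 60 ||
    (List.range (nCs s)).any fun c => Nat.beq (Nat.land (Nat.land (rowP s p) (rowP s q)) (cmA s c))
      (Nat.land (rowP s p) (rowP s q))

/-- the conjugators -/
def csOK (s c : ℕ) : Bool :=
  Nat.blt (pk (bif Nat.beq s 0 then csTabA else csTabB) 15 c) 21504 && commC (csA s c) (eA (w0 s)) &&
    allB (fun j => !(cmA s c).testBit j ||
      (List.range 64).any fun v => Nat.beq (mC (csA s c) (hA s j)) (mC (eA v) (csA s c))) 204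

/-- the chosen pair -/
def baseOK (s : ℕ) : Bool :=
  Nat.blt (p0 s) (nP s) && Nat.blt (q0 s) (nP s) && (rowP s (p0 s)).testBit (pP s (q0 s)) &&
    pureH s (pP s (p0 s)) && pureH s (pP s (q0 s)) &&
    Nat.beq (cnt (fun j => commC (hA s (pP s (p0 s))) (hA s j)) 204) (kP s) &&
    Nat.beq (cnt (fun j => commC (hA s (pP s (q0 s))) (hA s j)) 204) (kP s) &&
    Nat.beq (cnt (fun j => (rowP s (p0 s)).testBit j && (rowP s (q0 s)).testBit j) 204) 60 &&
    (List.range 6).all fun k => (fourS s).any (fun w => Nat.beq w (eA (2 ^ k))) ||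
      (Nat.blt (unitA s k) 204 && Nat.beq (hA s (unitA s k)) (eA (2 ^ k)) &&
        (rowP s (p0 s)).testBit (unitA s k) && (rowP s (q0 s)).testBit (unitA s k))

/-- an extension keeps the class -/
def consOK (k K w : ℕ) : Bool :=
  allB (fun p => let q := Nat.xor (aplK K p) w
    !Nat.beq q 0 && Nat.beq (smem (Nat.xor (Nat.pow 2 k) p)) (smem q)) (Nat.pow 2 k)

/-- the maps keeping the class with a given first column are listed -/
def srchK (s n : ℕ) : ℕ → Bool :=
  Nat.rec (fun K => (List.range 48).any fun j => Nat.beq (keyAt (cosI s j)) K)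
    (fun m r K => allB (fun w => !consOK (5 - m) K w || r (Nat.add K (Nat.mul w (Nat.pow 64 (5 - m))))) 64) n

/-- the correction of a map moving the first vector -/
def cosOK (s j : ℕ) : Bool :=
  Nat.blt (cosI s j) 2160 && Nat.blt (cosK s j) 48 &&
    Nat.beq (mM (stabAt (cosI s j)) (stabAt (qA (cosK s j)))) (stabAt (genI (2 + s)))

/-- single facts -/
def baseAllOK : Bool :=
  Nat.beq (stabAt idI) oneM && Nat.blt idI 2160 && Nat.blt zI1 2160 && Nat.blt zI2 2160 &&
    Nat.beq (mM (stabAt zI1) (stabAt zI1)) (stabAt zI2) && Nat.beq (mM (stabAt zI2) (stabAt zI1)) oneM &&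
    Nat.beq (eA 0) oneC && Nat.beq (eA 1) zC && Nat.blt e48 48 && Nat.beq (kA1 e48) oneC &&
    Nat.beq (qA e48) idI && Nat.blt (gA 0) 48 && Nat.blt (gA 1) 48 && Nat.beq (genI 0) (qA (gA 0)) &&
    Nat.beq (genI 1) (qA (gA 1)) && (List.range 4).all (fun g => Nat.blt (genI g) 2160) && witOK &&
    allB (fun v => Nat.beq v 0 || (!Nat.beq (app zI1 v) v && !Nat.beq (app zI2 v) v)) 64 &&
    allB (fun w => (List.range 64).any fun v => Nat.beq (Nat.xor v (app zI1 v)) w) 64 &&
    allB (fun w => (List.range 64).any fun v => Nat.beq (Nat.xor v (app zI2 v)) w) 64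

end Cfsg.Agent.HeUniq.Local
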